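import Cfsg.Agent.Lib.Helper9.J1.SimpleCert

/-!
The Janko group `J1` has order `175560` and is simple (helper9).
-/

set_option autoImplicit false

namespace Cfsg.Agent.Lib.Helper9.J1

open Cfsg

/-- the first generator in `J1` -/
noncomputable def gX : ↥Spor.J1 := el PX inJ1_PX
/-- the second generator in `J1` -/
noncomputable def gY : ↥Spor.J1 := el PY inJ1_PY

theorem closure_gXY : Subgroup.closure ({gX, gY} : Set ↥Spor.J1) = ⊤ := by
  have h := Subgroup.closure_closure_coe_preimage (k := ({Spor.jankoX, Spor.jankoY} :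
    Set (GL (Fin 7) (ZMod 11))))
  have hset : ({gX, gY} : Set ↥Spor.J1) =
      ((↑) : ↥Spor.J1 → GL (Fin 7) (ZMod 11)) ⁻¹' {Spor.jankoX, Spor.jankoY} := by
    ext g
    simp only [Set.mem_insert_iff, Set.mem_singleton_iff, Set.mem_preimage]
    constructor
    · rintro (rfl | rfl)
      · left; exact el_PX
      · right; exact el_PY
    · rintro (h | h)
      · left; apply Subtype.ext; rw [h]; exact el_PX.symm
      · right; apply Subtype.ext; rw [h]; exact el_PY.symm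
  rw [hset]
  exact h

theorem el_inv_of {A B : M7} (hA : InJ1 A) (hB : InJ1 B) (h : mm A B = I7) :
    el B hB = (el A hA)⁻¹ := by
  apply eq_inv_of_mul_eq_one_right
  rw [el_mul, el_congr h (hA.mm hB) inJ1_I7, el_I7]

theorem mem_normalClosure_of_cert (a target : M7) (ha : InJ1 a) (ht : InJ1 target)
    (c : (ℕ × ℕ) × (ℕ × ℕ) × (ℕ × ℕ) × (ℕ × ℕ)) (h : chkCert a target c = true) :
    el target ht ∈ Subgroup.normalClosure {el a ha} := by
  unfold chkCert at h
  rw [Bool.and_eq_true, Bool.and_eq_true] at h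
  obtain ⟨h1, h2, h3⟩ := h
  have hu := inJ1_ofCode c.1
  have hu' := inJ1_ofCode c.2.1
  have hw := inJ1_ofCode c.2.2.1
  have hw' := inJ1_ofCode c.2.2.2
  have e1 : el target ht = el (ofCode c.1) hu * el a ha * el (ofCode c.2.1) hu' *
      (el (ofCode c.2.2.1) hw * el a ha * el (ofCode c.2.2.2) hw') := by
    rw [el_mul, el_mul, el_mul, el_mul, el_mul]
    exact el_congr (M7.eq_of_beq h1).symm _ _
  rw [e1, el_inv_of hu hu' (M7.eq_of_beq h2), el_inv_of hw hw' (M7.eq_of_beq h3)]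
  have hn : (Subgroup.normalClosure {el a ha}).Normal := Subgroup.normalClosure_normal
  have hmem : el a ha ∈ Subgroup.normalClosure {el a ha} :=
    Subgroup.subset_normalClosure (Set.mem_singleton _)
  exact Subgroup.mul_mem _ (hn.conj_mem _ hmem _) (hn.conj_mem _ hmem _)

theorem orderOf_el (c : ℕ × ℕ) (p : ℕ) (hp : p.Prime) (h : powP (ofCode c) p = I7 ∧ ofCode c ≠ I7) :
    orderOf (el (ofCode c) (inJ1_ofCode c)) = p := by
  have : Fact p.Prime := ⟨hp⟩
  apply orderOf_eq_prime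
  · rw [el_pow, el_congr h.1 _ inJ1_I7, el_I7]
  · exact el_ne_one _ h.2

/-- the Sylow `2`-subgroup -/
def E8 : Subgroup ↥Spor.J1 where
  carrier := {g | ∃ A ∈ L8m, ((g : GL (Fin 7) (ZMod 11)) : Mat7) = toMat A}
  mul_mem' := by
    rintro g h ⟨A, hA, eA⟩ ⟨B, hB, eB⟩
    have vA : InJ1 A := by
      unfold L8m at hA
      rw [List.mem_map] at hA
      obtain ⟨c, _, rfl⟩ := hA
      exact inJ1_ofCode c
    have vB : InJ1 B := by
      unfold L8m at hB
      rw [List.mem_map] at hB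
      obtain ⟨c, _, rfl⟩ := hB
      exact inJ1_ofCode c
    refine ⟨mm A B, L8_ok.2.2.1 A hA B hB, ?_⟩
    rw [Subgroup.coe_mul, Units.val_mul, eA, eB, toMat_mm A B vA.1 vB.1]
  one_mem' := ⟨I7, L8_ok.1, by rw [toMat_I7]; rfl⟩
  inv_mem' := by
    rintro g ⟨A, hA, eA⟩
    have vA : InJ1 A := by
      unfold L8m at hA
      rw [List.mem_map] at hA
      obtain ⟨c, _, rfl⟩ := hA
      exact inJ1_ofCode c
    have hg : g = el A vA := el_ext (by rw [eA, el_coe])
    have hsq : g * g = 1 := by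
      rw [hg, el_mul, el_congr (L8_ok.2.2.2.2 A hA) _ inJ1_I7, el_I7]
    have hinv : g⁻¹ = g := inv_eq_of_mul_eq_one_right hsq
    rw [hinv]
    exact ⟨A, hA, eA⟩

theorem inJ1_L8m {A : M7} (hA : A ∈ L8m) : InJ1 A := by
  unfold L8m at hA
  rw [List.mem_map] at hA
  obtain ⟨c, _, rfl⟩ := hA
  exact inJ1_ofCode c

theorem mem_E8_iff (g : ↥Spor.J1) : g ∈ E8 ↔ ∃ A, ∃ hA : A ∈ L8m, g = el A (inJ1_L8m hA) := by
  constructor
  · rintro ⟨A, hA, eA⟩
    exact ⟨A, hA, el_ext (by rw [eA, el_coe])⟩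
  · rintro ⟨A, hA, rfl⟩
    exact ⟨A, hA, el_coe _ _⟩

theorem card_E8 : Nat.card E8 = 8 := by
  classical
  have hbij : Function.Bijective (fun A : {A // A ∈ L8m} =>
      (⟨el A.1 (inJ1_L8m A.2), (mem_E8_iff _).2 ⟨A.1, A.2, rfl⟩⟩ : E8)) := by
    constructor
    · intro A B h
      have h1 := congrArg Subtype.val h
      exact Subtype.ext (el_inj (inJ1_L8m A.2) (inJ1_L8m B.2) h1)
    · intro g
      obtain ⟨A, hA, e⟩ := (mem_E8_iff _).1 g.2
      exact ⟨⟨A, hA⟩, Subtype.ext e.symm⟩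
  rw [← Nat.card_eq_of_bijective _ hbij, Nat.card_eq_fintype_card,
    Fintype.card_of_subtype L8m.toFinset (by simp), List.toFinset_card_of_nodup L8_ok.2.1,
    L8_ok.2.2.2.1]

/-- The order of `J1`. -/
theorem card_J1 : Nat.card Spor.J1 = 175560 := by
  have h8 : 8 ∣ Nat.card Spor.J1 := by
    rw [← card_E8]
    exact Subgroup.card_subgroup_dvd_card E8
  have hp : ∀ (c : ℕ × ℕ) (p : ℕ), p.Prime → (powP (ofCode c) p = I7 ∧ ofCode c ≠ I7) →
      p ∣ Nat.card Spor.J1 := by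
    intro c p hp h
    rw [← orderOf_el c p hp h]
    exact orderOf_dvd_natCard _
  obtain ⟨_, o3, o5, o7, o11, o19⟩ := ord_ok
  have h3 := hp ca3 3 (by norm_num) o3
  have h5 := hp ca5 5 (by norm_num) o5
  have h7 := hp ca7 7 (by norm_num) o7
  have h11 := hp ca11 11 (by norm_num) o11
  have h19 := hp ca19 19 (by norm_num) o19
  have hdvd : 175560 ∣ Nat.card Spor.J1 := by
    have a1 : 8 * 3 ∣ Nat.card Spor.J1 := Nat.Coprime.mul_dvd_of_dvd_of_dvd (by norm_num) h8 h3
    have a2 : 8 * 3 * 5 ∣ Nat.card Spor.J1 := Nat.Coprime.mul_dvd_of_dvd_of_dvd (by norm_num) a1 h5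
    have a3 : 8 * 3 * 5 * 7 ∣ Nat.card Spor.J1 :=
      Nat.Coprime.mul_dvd_of_dvd_of_dvd (by norm_num) a2 h7
    have a4 : 8 * 3 * 5 * 7 * 11 ∣ Nat.card Spor.J1 :=
      Nat.Coprime.mul_dvd_of_dvd_of_dvd (by norm_num) a3 h11
    have a5 : 8 * 3 * 5 * 7 * 11 * 19 ∣ Nat.card Spor.J1 :=
      Nat.Coprime.mul_dvd_of_dvd_of_dvd (by norm_num) a4 h19
    exact a5
  have hpos : 0 < Nat.card Spor.J1 := Nat.card_pos
  exact le_antisymm card_J1_le (Nat.le_of_dvd hpos hdvd)

theorem gX_eq : gX = el PX inJ1_PX := rfl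
theorem gY_eq : gY = el PY inJ1_PY := rfl

theorem odd_case (p : ℕ) (hp : p.Prime) (c : ℕ × ℕ)
    (ho : powP (ofCode c) p = I7 ∧ ofCode c ≠ I7) (hsq : ¬ p ^ 2 ∣ 175560)
    (cX cY : (ℕ × ℕ) × (ℕ × ℕ) × (ℕ × ℕ) × (ℕ × ℕ))
    (hX : chkCert (ofCode c) PX cX = true) (hY : chkCert (ofCode c) PY cY = true) :
    ∃ (S : Subgroup ↥Spor.J1) (k : ℕ), Nat.card S = p ^ k ∧ ¬ p ^ (k + 1) ∣ Nat.card ↥Spor.J1 ∧
      ∀ s ∈ S, s ≠ 1 → gX ∈ Subgroup.normalClosure {s} ∧ gY ∈ Subgroup.normalClosure {s} := by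
  have hord := orderOf_el c p hp ho
  refine ⟨Subgroup.zpowers (el (ofCode c) (inJ1_ofCode c)), 1, ?_, ?_, ?_⟩
  · rw [Nat.card_zpowers, hord, pow_one]
  · rw [card_J1]
    exact hsq
  · intro s hs hs1
    have ha := mem_zpowers_of_prime _ s p hp hord hs hs1
    have hle : Subgroup.normalClosure {el (ofCode c) (inJ1_ofCode c)} ≤
        Subgroup.normalClosure {s} := by
      apply Subgroup.normalClosure_le_normal
      rw [Set.singleton_subset_iff]
      exact (Subgroup.zpowers_le.2 (Subgroup.subset_normalClosure (Set.mem_singleton s))) ha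
    exact ⟨hle (mem_normalClosure_of_cert _ _ _ inJ1_PX cX hX),
      hle (mem_normalClosure_of_cert _ _ _ inJ1_PY cY hY)⟩

theorem two_case : ∃ (S : Subgroup ↥Spor.J1) (k : ℕ), Nat.card S = 2 ^ k ∧
    ¬ 2 ^ (k + 1) ∣ Nat.card ↥Spor.J1 ∧
      ∀ s ∈ S, s ≠ 1 → gX ∈ Subgroup.normalClosure {s} ∧ gY ∈ Subgroup.normalClosure {s} := by
  refine ⟨E8, 3, by rw [card_E8]; norm_num, by rw [card_J1]; norm_num, ?_⟩
  intro s hs hs1
  obtain ⟨A, hA, rfl⟩ := (mem_E8_iff s).1 hs
  have hne : A ≠ I7 := by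
    rintro rfl
    exact hs1 el_I7
  rcases conj2_cover A hA with h | ⟨e, he, hAe⟩
  · exact absurd h hne
  have hc := conj2_ok
  unfold chkConj2 at hc
  rw [List.all_eq_true] at hc
  have hce := hc e he
  rw [Bool.and_eq_true] at hce
  have hu := inJ1_ofCode e.1
  have hu' := inJ1_ofCode e.2.1
  have ha := inJ1_ofCode ca2
  have e1 : el A (inJ1_L8m hA) = el (ofCode e.1) hu * el (ofCode ca2) ha * (el (ofCode e.1) hu)⁻¹ := by
    rw [← el_inv_of hu hu' (M7.eq_of_beq hce.2), el_mul, el_mul]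
    exact el_congr ((M7.eq_of_beq hce.1).trans hAe).symm _ _
  have hn : (Subgroup.normalClosure {el A (inJ1_L8m hA)}).Normal := Subgroup.normalClosure_normal
  have hmem : el A (inJ1_L8m hA) ∈ Subgroup.normalClosure {el A (inJ1_L8m hA)} :=
    Subgroup.subset_normalClosure (Set.mem_singleton _)
  have ha2 : el (ofCode ca2) ha ∈ Subgroup.normalClosure {el A (inJ1_L8m hA)} := by
    have : el (ofCode ca2) ha =
        (el (ofCode e.1) hu)⁻¹ * el A (inJ1_L8m hA) * ((el (ofCode e.1) hu)⁻¹)⁻¹ := by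
      rw [e1]
      group
    rw [this]
    exact hn.conj_mem _ hmem _
  have hle : Subgroup.normalClosure {el (ofCode ca2) ha} ≤
      Subgroup.normalClosure {el A (inJ1_L8m hA)} := by
    apply Subgroup.normalClosure_le_normal
    rw [Set.singleton_subset_iff]
    exact ha2
  exact ⟨hle (mem_normalClosure_of_cert _ _ _ inJ1_PX cert2X cert_ok.1.1),
    hle (mem_normalClosure_of_cert _ _ _ inJ1_PY cert2Y cert_ok.1.2)⟩

/-- `J1` is simple. -/
theorem simple_J1 : IsSimpleGroup ↥Spor.J1 := by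
  have hnt : Nontrivial ↥Spor.J1 := by
    rw [← Finite.one_lt_card_iff_nontrivial, card_J1]
    norm_num
  apply simple_of_sylow_normalClosure gX gY closure_gXY
  intro p hp hpd
  rw [card_J1] at hpd
  have h : p = 2 ∨ p = 3 ∨ p = 5 ∨ p = 7 ∨ p = 11 ∨ p = 19 := by
    have e : (175560 : ℕ) = 2 ^ 3 * 3 * 5 * 7 * 11 * 19 := by norm_num
    rw [e] at hpd
    rcases (Nat.Prime.dvd_mul hp).1 hpd with h | h
    · rcases (Nat.Prime.dvd_mul hp).1 h with h | h
      · rcases (Nat.Prime.dvd_mul hp).1 h with h | h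
        · rcases (Nat.Prime.dvd_mul hp).1 h with h | h
          · rcases (Nat.Prime.dvd_mul hp).1 h with h | h
            · left
              exact (Nat.prime_dvd_prime_iff_eq hp Nat.prime_two).1 (hp.dvd_of_dvd_pow h)
            · right; left
              exact (Nat.prime_dvd_prime_iff_eq hp (by norm_num)).1 h
          · right; right; left
            exact (Nat.prime_dvd_prime_iff_eq hp (by norm_num)).1 h
        · right; right; right; left
          exact (Nat.prime_dvd_prime_iff_eq hp (by norm_num)).1 h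
      · right; right; right; right; left
        exact (Nat.prime_dvd_prime_iff_eq hp (by norm_num)).1 h
    · right; right; right; right; right
      exact (Nat.prime_dvd_prime_iff_eq hp (by norm_num)).1 h
  obtain ⟨_, o3, o5, o7, o11, o19⟩ := ord_ok
  obtain ⟨_, c3, c5, c7, c11, c19⟩ := cert_ok
  rcases h with rfl | rfl | rfl | rfl | rfl | rfl
  · exact two_case
  · exact odd_case 3 hp ca3 o3 (by norm_num) cert3X cert3Y c3.1 c3.2
  · exact odd_case 5 hp ca5 o5 (by norm_num) cert5X cert5Y c5.1 c5.2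
  · exact odd_case 7 hp ca7 o7 (by norm_num) cert7X cert7Y c7.1 c7.2
  · exact odd_case 11 hp ca11 o11 (by norm_num) cert11X cert11Y c11.1 c11.2
  · exact odd_case 19 hp ca19 o19 (by norm_num) cert19X cert19Y c19.1 c19.2

/-- `J1` is a simple group of order `175560`. -/
theorem isJ1 : Cfsg.IsJ1 ↥Spor.J1 := ⟨simple_J1, card_J1⟩

end Cfsg.Agent.Lib.Helper9.J1
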