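import Mathlib

/-!
Abstract lemmas for the simplicity of an explicitly enumerated group (helper9):
a group generated by `x, y`, such that for every prime `p` some Sylow `p`-subgroup has all its
nontrivial elements normally generating `x` and `y`, is simple.
-/

set_option autoImplicit false

namespace Cfsg.Agent.Lib.Helper9.J1

theorem exists_conj_mem_of_card {G : Type*} [Group G] [Finite G] (p : ℕ) [hp : Fact p.Prime]
    (S : Subgroup G) (k : ℕ) (hS : Nat.card S = p ^ k) (hk : ¬ p ^ (k + 1) ∣ Nat.card G)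
    (g : G) (hg : g ^ p = 1) : ∃ c : G, c * g * c⁻¹ ∈ S := by
  have hne : Nat.card G ≠ 0 := Nat.card_pos.ne'
  have hfac : (Nat.card G).factorization p = k := by
    apply le_antisymm
    · by_contra hlt
      push Not at hlt
      exact hk ((hp.out.pow_dvd_iff_le_factorization hne).2 hlt)
    · apply (hp.out.pow_dvd_iff_le_factorization hne).1
      rw [← hS]
      exact Subgroup.card_subgroup_dvd_card S
  let P : Sylow p G := Sylow.ofCard S (by rw [hS, hfac])
  have hz : IsPGroup p (Subgroup.zpowers g) := by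
    intro x
    obtain ⟨z, hz⟩ := Subgroup.mem_zpowers_iff.1 x.2
    refine ⟨1, ?_⟩
    apply Subtype.ext
    rw [pow_one, Subgroup.coe_pow, ← hz, Subgroup.coe_one, ← zpow_natCast, ← zpow_mul, mul_comm,
      zpow_mul, zpow_natCast, hg, one_zpow]
  obtain ⟨Q, hQ⟩ := hz.exists_le_sylow
  obtain ⟨c, hc⟩ := MulAction.exists_smul_eq G Q P
  refine ⟨c, ?_⟩
  have h1 : c * g * c⁻¹ ∈ (c • Q : Sylow p G).toSubgroup := by
    rw [Sylow.coe_subgroup_smul]
    have : c * g * c⁻¹ = MulAut.conj c • g := rfl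
    rw [this]
    exact Subgroup.smul_mem_pointwise_smul _ _ _ (hQ (Subgroup.mem_zpowers g))
  rw [hc] at h1
  exact h1

theorem simple_of_sylow_normalClosure {G : Type*} [Group G] [Finite G] [Nontrivial G] (x y : G)
    (hgen : Subgroup.closure {x, y} = ⊤)
    (H : ∀ p : ℕ, p.Prime → p ∣ Nat.card G → ∃ (S : Subgroup G) (k : ℕ), Nat.card S = p ^ k ∧
      ¬ p ^ (k + 1) ∣ Nat.card G ∧
        ∀ s ∈ S, s ≠ 1 → x ∈ Subgroup.normalClosure {s} ∧ y ∈ Subgroup.normalClosure {s}) :
    IsSimpleGroup G := by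
  refine ⟨fun N hN => ?_⟩
  by_cases hbot : N = ⊥
  · left; exact hbot
  right
  have hcard : Nat.card N ≠ 1 := by
    intro h
    exact hbot (Subgroup.card_eq_one.1 h)
  obtain ⟨p, hp, hpd⟩ := Nat.exists_prime_and_dvd hcard
  have : Fact p.Prime := ⟨hp⟩
  obtain ⟨n, hn⟩ := exists_prime_orderOf_dvd_card' p hpd
  have hpG : p ∣ Nat.card G := dvd_trans hpd (Subgroup.card_subgroup_dvd_card N)
  obtain ⟨S, k, hS, hk, hs⟩ := H p hp hpG
  have hnp : (n : G) ^ p = 1 := by
    rw [← Subgroup.coe_pow, ← hn, pow_orderOf_eq_one, Subgroup.coe_one]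
  obtain ⟨c, hc⟩ := exists_conj_mem_of_card p S k hS hk (n : G) hnp
  have hne : c * (n : G) * c⁻¹ ≠ 1 := by
    intro h
    have h1 : (n : G) = 1 := by
      have : (n : G) = c⁻¹ * (c * (n : G) * c⁻¹) * c := by group
      rw [this, h]
      group
    have h2 : n = 1 := Subtype.ext h1
    rw [h2, orderOf_one] at hn
    exact hp.one_lt.ne hn
  have hmem : c * (n : G) * c⁻¹ ∈ N := hN.conj_mem _ n.2 c
  obtain ⟨hx, hy⟩ := hs _ hc hne
  have hle : Subgroup.normalClosure {c * (n : G) * c⁻¹} ≤ N :=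
    Subgroup.normalClosure_le_normal (Set.singleton_subset_iff.2 hmem)
  rw [eq_top_iff, ← hgen, Subgroup.closure_le]
  intro g hg
  rcases hg with rfl | rfl
  · exact hle hx
  · exact hle hy

theorem mem_zpowers_of_prime {G : Type*} [Group G] [Finite G] (a s : G) (p : ℕ) (hp : p.Prime)
    (ha : orderOf a = p) (hs : s ∈ Subgroup.zpowers a) (hs1 : s ≠ 1) : a ∈ Subgroup.zpowers s := by
  have hle : Subgroup.zpowers s ≤ Subgroup.zpowers a := Subgroup.zpowers_le.2 hs
  have hdvd : orderOf s ∣ p := by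
    rw [← ha]
    exact orderOf_dvd_of_mem_zpowers hs
  have hos : orderOf s = p := by
    rcases (Nat.dvd_prime hp).1 hdvd with h | h
    · exact absurd (orderOf_eq_one_iff.1 h) hs1
    · exact h
  have heq : Subgroup.zpowers s = Subgroup.zpowers a := by
    apply Subgroup.eq_of_le_of_card_ge hle
    rw [Nat.card_zpowers, Nat.card_zpowers, ha, hos]
  rw [heq]
  exact Subgroup.mem_zpowers a

end Cfsg.Agent.Lib.Helper9.J1
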