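import Mathlib

/-!
Abstract lemmas for the centralizer of an involution of `J1` (helper9).
-/

set_option autoImplicit false

namespace Cfsg.Agent.Lib.Helper9.J1

/-- A group of order `60` with a core-free subgroup of order `12` is the alternating group. -/
theorem nonempty_mulEquiv_alt5_of_subgroups {G : Type*} [Group G] (A B : Subgroup G) [Finite A]
    (hBA : B ≤ A) (hA : Nat.card A = 60) (hB : Nat.card B = 12)
    (hcore : ∀ k ∈ B, (∀ g ∈ A, g * k * g⁻¹ ∈ B) → k = 1) :
    Nonempty (↥A ≃* alternatingGroup (Fin 5)) := by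
  classical
  set H : Subgroup ↥A := B.subgroupOf A with hH
  have hHc : Nat.card H = 12 := by
    rw [← hB]
    exact Nat.card_congr (Subgroup.subgroupOfEquivOfLe hBA).toEquiv
  have hidx : H.index = 5 := by
    have h1 := H.card_mul_index
    rw [hHc, hA] at h1
    omega
  have hcoreH : H.normalCore = ⊥ := by
    rw [Subgroup.eq_bot_iff_forall]
    intro k hk
    have hk' : ∀ b : ↥A, b * k * b⁻¹ ∈ H := hk
    have h1 : (k : G) ∈ B := by
      have := hk' 1
      rw [one_mul, inv_one, mul_one, hH, Subgroup.mem_subgroupOf] at this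
      exact this
    have h2 : ∀ g ∈ A, g * (k : G) * g⁻¹ ∈ B := by
      intro g hg
      have := hk' ⟨g, hg⟩
      rw [hH, Subgroup.mem_subgroupOf] at this
      exact this
    exact Subtype.ext (hcore _ h1 h2)
  have : Fintype (↥A ⧸ H) := Fintype.ofFinite _
  have hc : Fintype.card (↥A ⧸ H) = 5 := by
    rw [← Nat.card_eq_fintype_card]; exact hidx
  have e : (↥A ⧸ H) ≃ Fin 5 := Fintype.equivFinOfCardEq hc
  set f : ↥A →* Equiv.Perm (Fin 5) :=
    (Equiv.permCongrHom e).toMonoidHom.comp (MulAction.toPermHom ↥A (↥A ⧸ H)) with hf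
  have hinj : Function.Injective f := by
    rw [hf, MonoidHom.coe_comp]
    apply Function.Injective.comp (Equiv.permCongrHom e).injective
    rw [← MonoidHom.ker_eq_bot_iff, ← Subgroup.normalCore_eq_ker, hcoreH]
  have e' : ↥A ≃* f.range := MonoidHom.ofInjective hinj
  have hr : Nat.card f.range = 60 := by rw [← Nat.card_congr e'.toEquiv, hA]
  have hidx2 : f.range.index = 2 := by
    have h1 := f.range.card_mul_index
    rw [hr, Nat.card_eq_fintype_card, Fintype.card_perm, Fintype.card_fin] at h1
    have : (5 : ℕ).factorial = 120 := rfl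
    rw [this] at h1
    omega
  have := Equiv.Perm.eq_alternatingGroup_of_index_eq_two hidx2
  exact ⟨e'.trans (MulEquiv.subgroupCongr this)⟩

/-- A group with a central involution outside a subgroup of index two is a direct product. -/
theorem nonempty_mulEquiv_prod_of_central_involution {G : Type*} [Group G] (C A : Subgroup G)
    [Finite C] (z : G) (hz2 : orderOf z = 2) (hzC : z ∈ C) (hzc : ∀ g ∈ A, z * g = g * z)
    (hAC : A ≤ C) (hzA : z ∉ A) (hcard : Nat.card C ≤ 2 * Nat.card A) :
    Nonempty (↥C ≃* Multiplicative (ZMod 2) × ↥A) := by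
  classical
  have hZc : Nat.card (Subgroup.zpowers z) = 2 := by rw [Nat.card_zpowers, hz2]
  have hM : Nat.card (Multiplicative (ZMod 2)) = 2 := by
    rw [Nat.card_eq_fintype_card, Fintype.card_multiplicative, ZMod.card]
  have e2 : Multiplicative (ZMod 2) ≃* Subgroup.zpowers z :=
    mulEquivOfCyclicCardEq (by rw [hM, hZc])
  set f1 : Multiplicative (ZMod 2) →* G := (Subgroup.zpowers z).subtype.comp e2.toMonoidHom
    with hf1
  have hf1z : ∀ m, f1 m ∈ Subgroup.zpowers z := fun m => (e2 m).2
  have hcomm : ∀ (m : Multiplicative (ZMod 2)) (n : ↥A), Commute (f1 m) (A.subtype n) := by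
    intro m n
    obtain ⟨k, hk⟩ := Subgroup.mem_zpowers_iff.1 (hf1z m)
    rw [← hk]
    exact Commute.zpow_left (hzc _ n.2) k
  set f : Multiplicative (ZMod 2) × ↥A →* G := MonoidHom.noncommCoprod f1 A.subtype hcomm with hf
  have hz1 : z ≠ 1 := by
    intro h
    rw [h, orderOf_one] at hz2
    norm_num at hz2
  have hzsq : z ^ 2 = 1 := by rw [← hz2]; exact pow_orderOf_eq_one z
  have hdisj : Disjoint f1.range A.subtype.range := by
    rw [Subgroup.disjoint_def]
    intro x hx1 hx2
    obtain ⟨m, rfl⟩ := hx1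
    obtain ⟨n, hn⟩ := hx2
    have hxA : f1 m ∈ A := by rw [← hn]; exact n.2
    obtain ⟨k, hk⟩ := Subgroup.mem_zpowers_iff.1 (hf1z m)
    by_contra hne
    apply hzA
    -- z ^ k is z or 1
    rcases Int.emod_two_eq_zero_or_one k with h0 | h1
    · exfalso
      apply hne
      rw [← hk, ← Int.emod_add_mul_ediv k 2, h0, zero_add, zpow_mul, zpow_ofNat, hzsq, one_zpow]
    · have : z ^ k = z := by
        rw [← Int.emod_add_mul_ediv k 2, h1, zpow_add, zpow_one, zpow_mul, zpow_ofNat, hzsq,
          one_zpow, mul_one]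
      rw [← this, hk]
      exact hxA
  have hinj : Function.Injective f := by
    rw [hf, MonoidHom.noncommCoprod_injective]
    refine ⟨?_, A.subtype_injective, hdisj⟩
    rw [hf1, MonoidHom.coe_comp]
    exact (Subgroup.zpowers z).subtype_injective.comp e2.injective
  have e' : Multiplicative (ZMod 2) × ↥A ≃* f.range := MonoidHom.ofInjective hinj
  have hle : f.range ≤ C := by
    rintro x ⟨⟨m, n⟩, rfl⟩
    rw [hf, MonoidHom.noncommCoprod_apply]
    apply Subgroup.mul_mem
    · obtain ⟨k, hk⟩ := Subgroup.mem_zpowers_iff.1 (hf1z m)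
      rw [← hk]
      exact Subgroup.zpow_mem _ hzC k
    · exact hAC n.2
  have hrc : Nat.card f.range = 2 * Nat.card A := by
    rw [← Nat.card_congr e'.toEquiv, Nat.card_prod, hM]
  have heq : f.range = C := Subgroup.eq_of_le_of_card_ge hle (by rw [hrc]; exact hcard)
  exact ⟨(MulEquiv.subgroupCongr heq).symm.trans e'.symm⟩

/-- a bound for the cardinality of a set covered by a list -/
theorem natCard_le_length {α β : Type*} (L : List β) (F : β → α) (S : Set α)
    (h : ∀ a ∈ S, ∃ b ∈ L, a = F b) : Nat.card S ≤ L.length := by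
  classical
  have hsub : S ⊆ ((L.map F).toFinset : Set α) := by
    intro a ha
    obtain ⟨b, hb, rfl⟩ := h a ha
    simp only [List.coe_toFinset, List.mem_map, Set.mem_setOf_eq]
    exact ⟨b, hb, rfl⟩
  calc Nat.card S = S.ncard := Nat.card_coe_set_eq S
    _ ≤ ((L.map F).toFinset : Set α).ncard := Set.ncard_le_ncard hsub (Finset.finite_toSet _)
    _ = (L.map F).toFinset.card := Set.ncard_coe_finset _
    _ ≤ (L.map F).length := List.toFinset_card_le _
    _ = L.length := List.length_map _

end Cfsg.Agent.Lib.Helper9.J1
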