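import Cfsg.Agent.Lib.Helper9.J1.OutData

/-!
Kernel-checked certificates for the automorphisms of `J1` (helper9).
-/

set_option autoImplicit false

namespace Cfsg.Agent.Lib.Helper9.J1

/-- a row vector multiplied by a list of matrices -/
def vmW (v : ℕ) (L : List M7) : ℕ := L.foldl vm v

/-- repetition of a list -/
def repL (n : ℕ) (L : List M7) : List M7 := (List.replicate n L).flatten

/-- the relations of a partner of the involution, tested on the first basis vector -/
def relY (k t : M7) : Bool :=
  Nat.beq (vm (vm (vm (vm (vm (vm (nat_lit 1) k) t) k) t) k) t) (nat_lit 1) &&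
    (Nat.beq (vmW 1 (repL 7 [PA2, k, t])) 1 &&
      Nat.beq (vmW 1 (repL 19 [PA2, k, t, PA2, k, t, k, t])) 1)

/-- partners of the involution are known -/
def chkY (k t : M7) : Bool := !(relY k t) || conjY.any fun e => e.1.beq (mm k t)

/-- the check of a chunk of coset representatives -/
def chkChunk (ts : List M7) : Bool := ts.all fun t => T2m.all fun k => chkY k t

/-- the packed matrix of a word in the standard generators -/
def evAB (w : List Bool) : M7 := w.foldl (fun A b => mm A (if b then PA2 else PB3)) I7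

/-- chunks of the coset representatives -/
def chunk (i : ℕ) : List M7 := (T1m.drop (38 * i)).take 38

theorem chunks_eq : T1m = chunk 0 ++ (chunk 1 ++ (chunk 2 ++ (chunk 3 ++ (chunk 4 ++ (chunk 5 ++ chunk 6))))) := by
  decide +kernel

theorem gen_ok : PA2 = ofCode ca2 ∧ PB3 = ofCode cb3 ∧ powP PB3 3 = I7 ∧
    powP (mm PA2 PB3) 7 = I7 ∧ powP (mm (mm (mm (mm PA2 PB3) PA2) PB3) PB3) 19 = I7 ∧
    evAB wX2 = PX ∧ evAB wY2 = PY := by decide +kernel

theorem conjY_ok : ∀ e ∈ conjY, mm (mm (ofCode e.2.1) PB3) (ofCode e.2.2) = e.1 ∧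
    mm (ofCode e.2.1) (ofCode e.2.2) = I7 ∧ mm (ofCode e.2.1) PA2 = mm PA2 (ofCode e.2.1) := by
  decide +kernel

end Cfsg.Agent.Lib.Helper9.J1
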