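import Cfsg.Agent.Lib.Helper9.J1.CentData
import Cfsg.Agent.Lib.Helper9.J1.OutCert

/-!
Kernel-checked certificates for the centralizer of an involution of `J1` (helper9).
-/

set_option autoImplicit false

namespace Cfsg.Agent.Lib.Helper9.J1

theorem LA_ok : LA = LAc.map ofCode ∧ I7 ∈ LA ∧ LA.Nodup ∧ LA.length = 60 ∧
    (∀ A ∈ LA, mm A PA2 = mm PA2 A) ∧ PA2 ∉ LA ∧ mm PA2 PB3 ≠ mm PB3 PA2 := by decide +kernel

theorem LA_closed : ∀ A ∈ LA, ∀ B ∈ LA, mm A B ∈ LA := by decide +kernel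

theorem LB_ok : (∀ B ∈ LB, B ∈ LA) ∧ I7 ∈ LB ∧ LB.Nodup ∧ LB.length = 12 ∧
    (∀ A ∈ LB, ∀ B ∈ LB, mm A B ∈ LB) := by decide +kernel

theorem core_ok : ∀ b ∈ LB, b = I7 ∨ ∃ e ∈ coreCert, e.1 = b ∧ e.2.1 ∈ LA ∧ e.2.2 ∈ LA ∧
    mm e.2.1 e.2.2 = I7 ∧ mm (mm e.2.1 b) e.2.2 ∉ LB := by decide +kernel

theorem conjY_length : conjY.length = 120 := by decide +kernel

end Cfsg.Agent.Lib.Helper9.J1
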