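import Cfsg.Agent.Lib.Helper9.J1.Out
import Cfsg.Agent.Lib.Helper9.J1.CentCert
import Cfsg.Agent.Lib.Helper9.J1.CentAbs

/-!
The centralizer of an involution of the Janko group `J1` is `2 × A5` (helper9).
-/

set_option autoImplicit false

namespace Cfsg.Agent.Lib.Helper9.J1

open Cfsg

/-! ### subgroups from lists of packed matrices -/

/-- the submonoid of `J1` of a list of packed matrices closed under multiplication -/
def listMon (L : List M7) (hv : ∀ A ∈ L, InJ1 A) (h1 : I7 ∈ L)
    (hm : ∀ A ∈ L, ∀ B ∈ L, mm A B ∈ L) : Submonoid ↥Spor.J1 where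
  carrier := {g | ∃ A ∈ L, cm g = toMat A}
  mul_mem' := by
    rintro g h ⟨A, hA, eA⟩ ⟨B, hB, eB⟩
    refine ⟨mm A B, hm A hA B hB, ?_⟩
    rw [map_mul, eA, eB, toMat_mm A B (hv A hA).1 (hv B hB).1]
  one_mem' := ⟨I7, h1, by rw [map_one, toMat_I7]⟩

/-- the subgroup of `J1` of a list of packed matrices closed under multiplication -/
def listSub (L : List M7) (hv : ∀ A ∈ L, InJ1 A) (h1 : I7 ∈ L)
    (hm : ∀ A ∈ L, ∀ B ∈ L, mm A B ∈ L) : Subgroup ↥Spor.J1 :=
  { listMon L hv h1 hm with
    inv_mem' := by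
      intro g hg
      have : g⁻¹ = g ^ (orderOf g - 1) := by
        apply inv_eq_of_mul_eq_one_right
        rw [← pow_succ', Nat.sub_add_cancel (orderOf_pos g), pow_orderOf_eq_one]
      rw [this]
      exact (listMon L hv h1 hm).pow_mem hg _ }

theorem mem_listSub_iff (L : List M7) (hv : ∀ A ∈ L, InJ1 A) (h1 : I7 ∈ L)
    (hm : ∀ A ∈ L, ∀ B ∈ L, mm A B ∈ L) (g : ↥Spor.J1) :
    g ∈ listSub L hv h1 hm ↔ ∃ A, ∃ hA : A ∈ L, g = el A (hv A hA) := by
  constructor
  · rintro ⟨A, hA, eA⟩
    exact ⟨A, hA, cm_injective (by rw [eA, cm_el])⟩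
  · rintro ⟨A, hA, rfl⟩
    exact ⟨A, hA, cm_el _ _⟩

theorem card_listSub (L : List M7) (hv : ∀ A ∈ L, InJ1 A) (h1 : I7 ∈ L)
    (hm : ∀ A ∈ L, ∀ B ∈ L, mm A B ∈ L) (hnd : L.Nodup) :
    Nat.card (listSub L hv h1 hm) = L.length := by
  classical
  have hbij : Function.Bijective (fun A : {A // A ∈ L} =>
      (⟨el A.1 (hv A.1 A.2), (mem_listSub_iff L hv h1 hm _).2 ⟨A.1, A.2, rfl⟩⟩ :
        listSub L hv h1 hm)) := by
    constructor
    · intro A B h
      have h1 := congrArg Subtype.val h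
      exact Subtype.ext (el_inj (hv A.1 A.2) (hv B.1 B.2) h1)
    · intro g
      obtain ⟨A, hA, e⟩ := (mem_listSub_iff L hv h1 hm _).1 g.2
      exact ⟨⟨A, hA⟩, Subtype.ext e.symm⟩
  rw [← Nat.card_eq_of_bijective _ hbij, Nat.card_eq_fintype_card,
    Fintype.card_of_subtype L.toFinset (by simp), List.toFinset_card_of_nodup hnd]

/-! ### the complement and its subgroup of index five -/

theorem inJ1_LA {A : M7} (hA : A ∈ LA) : InJ1 A := by
  rw [LA_ok.1, List.mem_map] at hA
  obtain ⟨c, _, rfl⟩ := hA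
  exact inJ1_ofCode c

theorem inJ1_LB {A : M7} (hA : A ∈ LB) : InJ1 A := inJ1_LA (LB_ok.1 A hA)

/-- the complement of the involution in its centralizer -/
def subA : Subgroup ↥Spor.J1 := listSub LA (fun _ hA => inJ1_LA hA) LA_ok.2.1 LA_closed

/-- a subgroup of index five of the complement -/
def subB : Subgroup ↥Spor.J1 := listSub LB (fun _ hA => inJ1_LB hA) LB_ok.2.1 LB_ok.2.2.2.2

theorem card_subA : Nat.card subA = 60 := by
  unfold subA
  rw [card_listSub _ _ _ _ LA_ok.2.2.1, LA_ok.2.2.2.1]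

theorem card_subB : Nat.card subB = 12 := by
  unfold subB
  rw [card_listSub _ _ _ _ LB_ok.2.2.1, LB_ok.2.2.2.1]

theorem subB_le : subB ≤ subA := by
  intro g hg
  obtain ⟨A, hA, rfl⟩ := (mem_listSub_iff _ _ _ _ g).1 hg
  exact (mem_listSub_iff _ _ _ _ _).2 ⟨A, LB_ok.1 A hA, rfl⟩

theorem subB_core : ∀ k ∈ subB, (∀ g ∈ subA, g * k * g⁻¹ ∈ subB) → k = 1 := by
  intro k hk hall
  obtain ⟨b, hb, rfl⟩ := (mem_listSub_iff _ _ _ _ k).1 hk
  rcases core_ok b hb with rfl | ⟨e, _, rfl, h2, h2', h3, h4⟩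
  · exact el_I7
  · exfalso
    have ig := inJ1_LA h2
    have ig' := inJ1_LA h2'
    have hgA : el e.2.1 ig ∈ subA := (mem_listSub_iff _ _ _ _ _).2 ⟨e.2.1, h2, rfl⟩
    have := hall _ hgA
    rw [← el_inv_of ig ig' h3, el_mul, el_mul] at this
    obtain ⟨M, hM, eM⟩ := (mem_listSub_iff _ _ _ _ _).1 this
    rw [el_inj _ _ eM] at h4
    exact h4 hM

/-! ### the centre is trivial -/

theorem center_J1 : Subgroup.center ↥Spor.J1 = ⊥ := by
  have hs := simple_J1
  have hn : (Subgroup.center ↥Spor.J1).Normal := inferInstance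
  rcases hn.eq_bot_or_eq_top with h | h
  · exact h
  · exfalso
    have hm : ga ∈ Subgroup.center ↥Spor.J1 := by rw [h]; trivial
    have hc := Subgroup.mem_center_iff.1 hm gb
    unfold ga gb at hc
    rw [el_mul, el_mul] at hc
    exact LA_ok.2.2.2.2.2.2 (el_inj _ _ hc).symm

/-! ### partners of the involution, with the conjugator in the list -/

theorem partner_conj' (y' : ↥Spor.J1) (h3 : y' ^ 3 = 1) (h7 : (ga * y') ^ 7 = 1)
    (h19 : (ga * y' * ga * y' * y') ^ 19 = 1) : ∃ e, ∃ _ : e ∈ conjY, y' = el (ofCode e.2.1) (inJ1_ofCode e.2.1) * gb *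
      (el (ofCode e.2.1) (inJ1_ofCode e.2.1))⁻¹ := by
  obtain ⟨k, t, hk, ht, e⟩ := exists_code y'
  have ik := inJ1_T2m hk
  have it := inJ1_T1m ht
  have hy : cm y' = toMat k * toMat t := by
    rw [e, cm_el, toMat_mm k t ik.1 it.1]
  have hval : ∀ L : List M7, (∀ M ∈ L, M = PA2 ∨ M = k ∨ M = t) → ∀ M ∈ L, Valid M := by
    intro L hL M hM
    rcases hL M hM with rfl | rfl | rfl
    · exact inJ1_PA2.1
    · exact ik.1
    · exact it.1
  have t1 : Nat.beq (vm (vm (vm (vm (vm (vm (nat_lit 1) k) t) k) t) k) t) (nat_lit 1) = true := by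
    have hL : ∀ M ∈ repL 3 [k, t], Valid M := by
      apply hval
      intro M hM
      have := mem_repL hM
      simp only [List.mem_cons, List.not_mem_nil, or_false] at this
      tauto
    have h1 := test_of_prod_eq_one (repL 3 [k, t]) hL (by
      rw [prod_repL]
      simp only [List.map_cons, List.map_nil, List.prod_cons, List.prod_nil, mul_one]
      rw [← hy, ← map_pow, h3, map_one])
    have hl : repL 3 [k, t] = [k, t, k, t, k, t] := rfl
    rw [hl, vmW_cons, vmW_cons, vmW_cons, vmW_cons, vmW_cons, vmW_cons, vmW_nil] at h1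
    exact h1
  have t2 : Nat.beq (vmW 1 (repL 7 [PA2, k, t])) 1 = true := by
    have hL : ∀ M ∈ repL 7 [PA2, k, t], Valid M := by
      apply hval
      intro M hM
      have := mem_repL hM
      simp only [List.mem_cons, List.not_mem_nil, or_false] at this
      exact this
    exact test_of_prod_eq_one (repL 7 [PA2, k, t]) hL (by
      rw [prod_repL]
      simp only [List.map_cons, List.map_nil, List.prod_cons, List.prod_nil, mul_one]
      rw [← hy, ← cm_ga, ← map_mul, ← map_pow, h7, map_one])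
  have t3 : Nat.beq (vmW 1 (repL 19 [PA2, k, t, PA2, k, t, k, t])) 1 = true := by
    have hL : ∀ M ∈ repL 19 [PA2, k, t, PA2, k, t, k, t], Valid M := by
      apply hval
      intro M hM
      have := mem_repL hM
      simp only [List.mem_cons, List.not_mem_nil, or_false] at this
      rcases this with h | h | h | h | h | h | h | h
      · left; exact h
      · right; left; exact h
      · right; right; exact h
      · left; exact h
      · right; left; exact h
      · right; right; exact h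
      · right; left; exact h
      · right; right; exact h
    exact test_of_prod_eq_one (repL 19 [PA2, k, t, PA2, k, t, k, t]) hL (by
      rw [prod_repL]
      simp only [List.map_cons, List.map_nil, List.prod_cons, List.prod_nil, mul_one]
      have : toMat PA2 * (toMat k * (toMat t * (toMat PA2 * (toMat k * (toMat t * (toMat k * toMat t)))))) =
          cm (ga * y' * ga * y' * y') := by
        simp only [map_mul, hy, cm_ga]
        simp only [mul_assoc]
      rw [this, ← map_pow, h19, map_one])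
  have hrel : relY k t = true := by
    unfold relY
    rw [Bool.and_eq_true, Bool.and_eq_true]
    exact ⟨t1, t2, t3⟩
  have hchk := pass_all t ht k hk
  unfold chkY at hchk
  rw [hrel] at hchk
  simp only [Bool.not_true, Bool.false_or, List.any_eq_true] at hchk
  obtain ⟨e', he', hbeq⟩ := hchk
  have hmat := M7.eq_of_beq hbeq
  obtain ⟨c1, c2, c3⟩ := conjY_ok e' he'
  have hc := inJ1_ofCode e'.2.1
  have hc' := inJ1_ofCode e'.2.2
  refine ⟨e', he', ?_⟩
  rw [← el_inv_of hc hc' c2]
  unfold gb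
  rw [el_mul, el_mul, e]
  exact el_congr (hmat.symm.trans c1.symm) _ _

/-! ### the centralizer -/

theorem conjY_comm (e : M7 × (ℕ × ℕ) × (ℕ × ℕ)) (he : e ∈ conjY) :
    el (ofCode e.2.1) (inJ1_ofCode e.2.1) * ga = ga * el (ofCode e.2.1) (inJ1_ofCode e.2.1) := by
  obtain ⟨_, _, c3⟩ := conjY_ok e he
  unfold ga
  rw [el_mul, el_mul]
  exact el_congr c3 _ _

theorem mem_centralizer_ga (g : ↥Spor.J1)
    (hg : g ∈ Subgroup.centralizer ({ga} : Set ↥Spor.J1)) :
    ∃ e ∈ conjY, g = el (ofCode e.2.1) (inJ1_ofCode e.2.1) := by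
  have hcomm : ga * g = g * ga := (Subgroup.mem_centralizer_iff.1 hg) ga rfl
  have hφa : MulAut.conj g ga = ga := by
    rw [MulAut.conj_apply, ← hcomm, mul_inv_cancel_right]
  have hφb : MulAut.conj g gb = g * gb * g⁻¹ := MulAut.conj_apply _ _
  have r3 : (MulAut.conj g gb) ^ 3 = 1 := by rw [← map_pow, gb_cube, map_one]
  have r7 : (ga * MulAut.conj g gb) ^ 7 = 1 := by
    have : ga * MulAut.conj g gb = MulAut.conj g (ga * gb) := by rw [map_mul, hφa]
    rw [this, ← map_pow, gab_pow, map_one]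
  have r19 : (ga * MulAut.conj g gb * ga * MulAut.conj g gb * MulAut.conj g gb) ^ 19 = 1 := by
    have : ga * MulAut.conj g gb * ga * MulAut.conj g gb * MulAut.conj g gb =
        MulAut.conj g (ga * gb * ga * gb * gb) := by
      simp only [map_mul, hφa]
    rw [this, ← map_pow, gword_pow, map_one]
  obtain ⟨e, he, hy⟩ := partner_conj' _ r3 r7 r19
  refine ⟨e, he, ?_⟩
  have hc := conjY_comm e he
  set c := el (ofCode e.2.1) (inJ1_ofCode e.2.1) with hcdef
  rw [hφb] at hy
  have hza : (c⁻¹ * g) * ga = ga * (c⁻¹ * g) := by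
    have h1 : c⁻¹ * ga = ga * c⁻¹ := by
      have : c⁻¹ * ga = c⁻¹ * (ga * c) * c⁻¹ := by group
      rw [this, ← hc]
      group
    rw [mul_assoc, ← hcomm, ← mul_assoc, h1, mul_assoc]
  have hzb : (c⁻¹ * g) * gb = gb * (c⁻¹ * g) := by
    have h1 : g * gb = c * gb * c⁻¹ * g := by rw [← hy]; group
    rw [mul_assoc, h1]
    group
  have hz : c⁻¹ * g ∈ Subgroup.center ↥Spor.J1 := by
    rw [Subgroup.mem_center_iff]
    intro h
    have hh : h ∈ Subgroup.closure ({ga, gb} : Set ↥Spor.J1) := by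
      rw [closure_ga_gb]; trivial
    have hle : Subgroup.closure ({ga, gb} : Set ↥Spor.J1) ≤
        Subgroup.centralizer {c⁻¹ * g} := by
      rw [Subgroup.closure_le]
      intro x hx
      rw [SetLike.mem_coe, Subgroup.mem_centralizer_iff]
      intro y hy'
      rw [Set.mem_singleton_iff] at hy'
      subst hy'
      rcases hx with rfl | rfl
      · exact hza
      · exact hzb
    have := Subgroup.mem_centralizer_iff.1 (hle hh) _ rfl
    exact this.symm
  rw [center_J1, Subgroup.mem_bot] at hz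
  exact (inv_mul_eq_one.1 hz).symm

theorem card_centralizer_le :
    Nat.card ↥(Subgroup.centralizer ({ga} : Set ↥Spor.J1)) ≤ 120 := by
  have := natCard_le_length conjY (fun e => el (ofCode e.2.1) (inJ1_ofCode e.2.1))
    (Subgroup.centralizer ({ga} : Set ↥Spor.J1) : Set ↥Spor.J1) mem_centralizer_ga
  rw [conjY_length] at this
  exact this

theorem orderOf_ga : orderOf ga = 2 := by
  have : Fact (Nat.Prime 2) := ⟨Nat.prime_two⟩
  exact orderOf_eq_prime ga_sq ga_ne

theorem ga_comm_subA : ∀ g ∈ subA, ga * g = g * ga := by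
  intro g hg
  obtain ⟨A, hA, rfl⟩ := (mem_listSub_iff _ _ _ _ g).1 hg
  unfold ga
  rw [el_mul, el_mul]
  exact el_congr (LA_ok.2.2.2.2.1 A hA).symm _ _

theorem ga_not_mem_subA : ga ∉ subA := by
  intro h
  obtain ⟨A, hA, e⟩ := (mem_listSub_iff _ _ _ _ ga).1 h
  unfold ga at e
  have := el_inj _ _ e
  subst this
  exact LA_ok.2.2.2.2.2.1 hA

/-- The centralizer of the standard involution of `J1` is `2 × A5`. -/
theorem centralizer_ga_equiv : Nonempty (↥(Subgroup.centralizer ({ga} : Set ↥Spor.J1)) ≃*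
    Multiplicative (ZMod 2) × ↥(alternatingGroup (Fin 5))) := by
  obtain ⟨eA⟩ := nonempty_mulEquiv_alt5_of_subgroups subA subB subB_le card_subA card_subB
    subB_core
  have hAC : subA ≤ Subgroup.centralizer ({ga} : Set ↥Spor.J1) := by
    intro g hg
    rw [Subgroup.mem_centralizer_iff]
    intro h hh
    rw [Set.mem_singleton_iff] at hh
    subst hh
    exact ga_comm_subA g hg
  have hgaC : ga ∈ Subgroup.centralizer ({ga} : Set ↥Spor.J1) := by
    rw [Subgroup.mem_centralizer_iff]
    intro h hh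
    rw [Set.mem_singleton_iff] at hh
    subst hh
    rfl
  obtain ⟨eC⟩ := nonempty_mulEquiv_prod_of_central_involution
    (Subgroup.centralizer ({ga} : Set ↥Spor.J1)) subA ga orderOf_ga hgaC ga_comm_subA hAC
    ga_not_mem_subA (by rw [card_subA]; exact card_centralizer_le)
  exact ⟨eC.trans (MulEquiv.prodCongr (MulEquiv.refl _) eA)⟩

end Cfsg.Agent.Lib.Helper9.J1
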