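import Cfsg.Agent.Lib.Helper9.J1.Data

/-!
The Janko group `J1` is enumerated by a subgroup of order `660` and its `266` cosets (helper9).
-/

set_option autoImplicit false

namespace Cfsg.Agent.Lib.Helper9.J1

open Cfsg

/-! ### an abstract enumeration lemma -/

theorem closure_le_of_table {M : Type*} [Monoid M] (S : Set M) (K : Submonoid M) (T : Set M)
    (h1 : 1 ∈ T) (h : ∀ t ∈ T, ∀ s ∈ S, ∃ k ∈ K, ∃ t' ∈ T, t * s = k * t') :
    ∀ m ∈ Submonoid.closure S, ∃ k ∈ K, ∃ t ∈ T, m = k * t := by
  have key : ∀ m ∈ Submonoid.closure S, ∀ k0 ∈ K, ∀ t0 ∈ T, ∃ k ∈ K, ∃ t ∈ T, k0 * t0 * m = k * t := by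
    intro m hm
    induction hm using Submonoid.closure_induction with
    | mem s hs =>
      intro k0 hk0 t0 ht0
      obtain ⟨k, hk, t', ht', e⟩ := h t0 ht0 s hs
      exact ⟨k0 * k, K.mul_mem hk0 hk, t', ht', by rw [mul_assoc, e, mul_assoc]⟩
    | one =>
      intro k0 hk0 t0 ht0
      exact ⟨k0, hk0, t0, ht0, by rw [mul_one]⟩
    | mul x y _ _ ihx ihy =>
      intro k0 hk0 t0 ht0
      obtain ⟨k, hk, t, ht, e⟩ := ihx k0 hk0 t0 ht0
      obtain ⟨k', hk', t', ht', e'⟩ := ihy k hk t ht
      exact ⟨k', hk', t', ht', by rw [← mul_assoc, e, e']⟩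
  intro m hm
  obtain ⟨k, hk, t, ht, e⟩ := key m hm 1 K.one_mem 1 h1
  exact ⟨k, hk, t, ht, by rw [← e, one_mul, one_mul]⟩

/-! ### packed words and trees -/

/-- the matrices of the elements of `K` -/
def T2m : List M7 := T2E.map fun e => e.2.2.2.2
/-- the matrices of the coset representatives -/
def T1m : List M7 := T1E.map fun e => e.2.2.2.2.2.2

/-- the generators of `J1` -/
def gen1 (b : Bool) : M7 := if b then PY else PX
/-- the generators of `K` -/
def gen2 (b : Bool) : M7 := if b then PB else PA

/-- the packed matrix of a word (`true` for the first generator) -/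
def evP (w : List Bool) : M7 := w.foldl (fun A b => mm A (if b then PX else PY)) I7

/-- a list of matrices with parents is a tree: every matrix is the product of an earlier one and a
generator -/
def treeOK (g : Bool → M7) (L : List (ℕ × Bool × M7)) : Bool :=
  (List.range L.length).all fun i =>
    if i = 0 then (L.getD 0 (0, false, I7)).2.2.beq I7
    else
      decide ((L.getD i (0, false, I7)).1 < i) &&
        (L.getD i (0, false, I7)).2.2.beq
          (mm (L.getD (L.getD i (0, false, I7)).1 (0, false, I7)).2.2 (g (L.getD i (0, false, I7)).2.1))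

/-- the tree of the elements of `K` -/
def tree2 : List (ℕ × Bool × M7) := T2E.map fun e => (e.1, e.2.1, e.2.2.2.2)
/-- the tree of the coset representatives -/
def tree1 : List (ℕ × Bool × M7) := T1E.map fun e => (e.1, e.2.1, e.2.2.2.2.2.2)

/-- the elements of `K` are closed under the generators of `K` -/
def close2OK : Bool :=
  T2E.all fun e => (mm e.2.2.2.2 PA).beq (T2m.getD e.2.2.1 I7) &&
    (mm e.2.2.2.2 PB).beq (T2m.getD e.2.2.2.1 I7)

/-- the cosets are closed under the generators of `J1` -/
def close1OK : Bool :=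
  T1E.all fun e =>
    (mm e.2.2.2.2.2.2 PX).beq (mm (T2m.getD e.2.2.1 I7) (T1m.getD e.2.2.2.1 I7)) &&
    (mm e.2.2.2.2.2.2 PY).beq (mm (T2m.getD e.2.2.2.2.1 I7) (T1m.getD e.2.2.2.2.2.1 I7))

theorem valid_basic : Valid I7 ∧ Valid PX ∧ Valid PY ∧ evP wA = PA ∧ evP wB = PB := by
  decide +kernel

theorem T2m_length : T2m.length = 660 := by decide +kernel
theorem T1m_length : T1m.length = 266 := by decide +kernel
theorem tree2_ok : treeOK gen2 tree2 = true := by decide +kernel
theorem tree1_ok : treeOK gen1 tree1 = true := by decide +kernel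
theorem close2_ok : close2OK = true := by decide +kernel
theorem close1_ok : close1OK = true := by decide +kernel

end Cfsg.Agent.Lib.Helper9.J1
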