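import Cfsg.Agent.Lib.Helper9.J1.Chain

/-!
The order of the Janko group `J1` (helper9).
-/

set_option autoImplicit false

namespace Cfsg.Agent.Lib.Helper9.J1

open Cfsg

/-- matrices -/
abbrev Mat7 := Matrix (Fin 7) (Fin 7) (ZMod 11)

theorem tree_sound (P : M7 → Prop) (hI : P I7) (hmul : ∀ A B, P A → P B → P (mm A B))
    (g : Bool → M7) (hg : ∀ b, P (g b)) (L : List (ℕ × Bool × M7)) (h : treeOK g L = true) :
    ∀ e ∈ L, P e.2.2 := by
  unfold treeOK at h
  rw [List.all_eq_true] at h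
  have key : ∀ n, ∀ i, i < n → i < L.length → P (L.getD i (0, false, I7)).2.2 := by
    intro n
    induction n with
    | zero => intro i hi; omega
    | succ n ih =>
      intro i hi hiL
      have hi' := h i (List.mem_range.2 hiL)
      by_cases h0 : i = 0
      · rw [if_pos h0] at hi'
        rw [h0, M7.eq_of_beq hi']
        exact hI
      · rw [if_neg h0, Bool.and_eq_true, decide_eq_true_eq] at hi'
        rw [M7.eq_of_beq hi'.2]
        apply hmul _ _ _ (hg _)
        exact ih _ (by omega) (by omega)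
  intro e he
  obtain ⟨i, hi, rfl⟩ := List.getElem_of_mem he
  have := key (i + 1) i (by omega) hi
  rw [List.getD_eq_getElem _ _ hi] at this
  exact this

/-- a packed matrix of an element of `J1` -/
def InJ1 (A : M7) : Prop :=
  Valid A ∧ ∃ g : GL (Fin 7) (ZMod 11), g ∈ Spor.J1 ∧ (g : Mat7) = toMat A

theorem InJ1.mm {A B : M7} (hA : InJ1 A) (hB : InJ1 B) : InJ1 (mm A B) := by
  obtain ⟨vA, g, hg, eg⟩ := hA
  obtain ⟨vB, h, hh, eh⟩ := hB
  refine ⟨valid_mm A B vA vB, g * h, Spor.J1.mul_mem hg hh, ?_⟩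
  rw [toMat_mm A B vA vB, ← eg, ← eh]
  rfl

theorem toMat_I7 : toMat I7 = 1 := by decide +kernel
theorem toMat_PX : toMat PX = jankoMatrixX := by decide +kernel
theorem toMat_PY : toMat PY = jankoMatrixY := by decide +kernel

theorem inJ1_I7 : InJ1 I7 := ⟨valid_basic.1, 1, Spor.J1.one_mem, by rw [toMat_I7]; rfl⟩

theorem inJ1_PX : InJ1 PX :=
  ⟨valid_basic.2.1, Spor.jankoX, Subgroup.subset_closure (by left; rfl), by rw [toMat_PX]; rfl⟩

theorem inJ1_PY : InJ1 PY :=
  ⟨valid_basic.2.2.1, Spor.jankoY, Subgroup.subset_closure (by right; rfl), by rw [toMat_PY]; rfl⟩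

theorem inJ1_evP (w : List Bool) : InJ1 (evP w) := by
  unfold evP
  have : ∀ (A : M7), InJ1 A → InJ1 (w.foldl (fun A b => mm A (if b then PX else PY)) A) := by
    induction w with
    | nil => intro A hA; exact hA
    | cons b w ih =>
      intro A hA
      rw [List.foldl_cons]
      apply ih
      apply hA.mm
      cases b
      · exact inJ1_PY
      · exact inJ1_PX
  exact this I7 inJ1_I7

theorem inJ1_PA : InJ1 PA := by
  rw [← valid_basic.2.2.2.1]
  exact inJ1_evP wA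

theorem inJ1_PB : InJ1 PB := by
  rw [← valid_basic.2.2.2.2]
  exact inJ1_evP wB

theorem inJ1_gen1 (b : Bool) : InJ1 (gen1 b) := by
  unfold gen1
  cases b
  · exact inJ1_PX
  · exact inJ1_PY

theorem inJ1_gen2 (b : Bool) : InJ1 (gen2 b) := by
  unfold gen2
  cases b
  · exact inJ1_PA
  · exact inJ1_PB

theorem mem_T2m {k : M7} (h : k ∈ T2m) : ∃ e ∈ tree2, e.2.2 = k := by
  unfold T2m at h
  rw [List.mem_map] at h
  obtain ⟨e, he, rfl⟩ := h
  exact ⟨_, List.mem_map.2 ⟨e, he, rfl⟩, rfl⟩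

theorem mem_T1m {k : M7} (h : k ∈ T1m) : ∃ e ∈ tree1, e.2.2 = k := by
  unfold T1m at h
  rw [List.mem_map] at h
  obtain ⟨e, he, rfl⟩ := h
  exact ⟨_, List.mem_map.2 ⟨e, he, rfl⟩, rfl⟩

theorem inJ1_T2m {k : M7} (h : k ∈ T2m) : InJ1 k := by
  obtain ⟨e, he, rfl⟩ := mem_T2m h
  exact tree_sound InJ1 inJ1_I7 (fun _ _ hA hB => hA.mm hB) gen2 inJ1_gen2 tree2 tree2_ok e he

theorem inJ1_T1m {k : M7} (h : k ∈ T1m) : InJ1 k := by
  obtain ⟨e, he, rfl⟩ := mem_T1m h
  exact tree_sound InJ1 inJ1_I7 (fun _ _ hA hB => hA.mm hB) gen1 inJ1_gen1 tree1 tree1_ok e he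

/-! ### the enumeration -/

/-- the submonoid of matrices generated by the generators of `K` -/
def Kc : Submonoid Mat7 := Submonoid.closure {toMat PA, toMat PB}

theorem I7_mem_T2m : I7 ∈ T2m := by decide +kernel
theorem I7_mem_T1m : I7 ∈ T1m := by decide +kernel

theorem getD_mem {L : List M7} (h : I7 ∈ L) (i : ℕ) : L.getD i I7 ∈ L := by
  rw [List.getD_eq_getElem?_getD]
  cases hi : L[i]? with
  | none => exact h
  | some u => exact List.mem_of_getElem? hi

theorem T2m_Kc {k : M7} (h : k ∈ T2m) : Valid k ∧ toMat k ∈ Kc := by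
  obtain ⟨e, he, rfl⟩ := mem_T2m h
  refine tree_sound (fun A => Valid A ∧ toMat A ∈ Kc) ⟨valid_basic.1, ?_⟩ ?_ gen2 ?_ tree2 tree2_ok e he
  · rw [toMat_I7]
    exact Kc.one_mem
  · intro A B hA hB
    refine ⟨valid_mm A B hA.1 hB.1, ?_⟩
    rw [toMat_mm A B hA.1 hB.1]
    exact Kc.mul_mem hA.2 hB.2
  · intro b
    unfold gen2
    cases b
    · exact ⟨inJ1_PA.1, Submonoid.subset_closure (by left; rfl)⟩
    · exact ⟨inJ1_PB.1, Submonoid.subset_closure (by right; rfl)⟩

theorem Kc_subset : ∀ m ∈ Kc, ∃ k ∈ T2m, m = toMat k := by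
  intro m hm
  obtain ⟨k, hk, t, ⟨k2, hk2, rfl⟩, e⟩ := closure_le_of_table {toMat PA, toMat PB} ⊥
    {m | ∃ k ∈ T2m, m = toMat k} ⟨I7, I7_mem_T2m, toMat_I7.symm⟩ (by
      rintro t ⟨k0, hk0, rfl⟩ s hs
      have hc := close2_ok
      unfold close2OK at hc
      rw [List.all_eq_true] at hc
      unfold T2m at hk0
      rw [List.mem_map] at hk0
      obtain ⟨e, he, rfl⟩ := hk0
      have hce := hc e he
      rw [Bool.and_eq_true] at hce
      have hv : Valid e.2.2.2.2 := (T2m_Kc (List.mem_map.2 ⟨e, he, rfl⟩)).1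
      rcases hs with rfl | rfl
      · refine ⟨1, Submonoid.mem_bot.2 rfl, _, ⟨_, getD_mem I7_mem_T2m e.2.2.1, rfl⟩, ?_⟩
        rw [one_mul, ← toMat_mm _ _ hv inJ1_PA.1, M7.eq_of_beq hce.1]
      · refine ⟨1, Submonoid.mem_bot.2 rfl, _, ⟨_, getD_mem I7_mem_T2m e.2.2.2.1, rfl⟩, ?_⟩
        rw [one_mul, ← toMat_mm _ _ hv inJ1_PB.1, M7.eq_of_beq hce.2]) m hm
  rw [Submonoid.mem_bot] at hk
  exact ⟨k2, hk2, by rw [e, hk, one_mul]⟩

theorem enum_mat : ∀ m ∈ Submonoid.closure ({jankoMatrixX, jankoMatrixY} : Set Mat7),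
    ∃ k ∈ T2m, ∃ t ∈ T1m, m = toMat (mm k t) := by
  intro m hm
  obtain ⟨k, hk, t, ⟨t1, ht1, rfl⟩, e⟩ := closure_le_of_table {jankoMatrixX, jankoMatrixY} Kc
    {m | ∃ t ∈ T1m, m = toMat t} ⟨I7, I7_mem_T1m, toMat_I7.symm⟩ (by
      rintro t ⟨t0, ht0, rfl⟩ s hs
      have hc := close1_ok
      unfold close1OK at hc
      rw [List.all_eq_true] at hc
      have hv0 : Valid t0 := (inJ1_T1m ht0).1
      unfold T1m at ht0
      rw [List.mem_map] at ht0
      obtain ⟨e, he, rfl⟩ := ht0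
      have hce := hc e he
      rw [Bool.and_eq_true] at hce
      rcases hs with rfl | rfl
      · have hk := T2m_Kc (getD_mem I7_mem_T2m e.2.2.1)
        have ht := inJ1_T1m (getD_mem I7_mem_T1m e.2.2.2.1)
        refine ⟨_, hk.2, _, ⟨_, getD_mem I7_mem_T1m e.2.2.2.1, rfl⟩, ?_⟩
        rw [← toMat_PX, ← toMat_mm _ _ hv0 inJ1_PX.1, M7.eq_of_beq hce.1, toMat_mm _ _ hk.1 ht.1]
      · have hk := T2m_Kc (getD_mem I7_mem_T2m e.2.2.2.2.1)
        have ht := inJ1_T1m (getD_mem I7_mem_T1m e.2.2.2.2.2.1)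
        refine ⟨_, hk.2, _, ⟨_, getD_mem I7_mem_T1m e.2.2.2.2.2.1, rfl⟩, ?_⟩
        rw [← toMat_PY, ← toMat_mm _ _ hv0 inJ1_PY.1, M7.eq_of_beq hce.2, toMat_mm _ _ hk.1 ht.1])
    m hm
  obtain ⟨k2, hk2, rfl⟩ := Kc_subset k hk
  exact ⟨k2, hk2, t1, ht1, by rw [e, toMat_mm _ _ (T2m_Kc hk2).1 (inJ1_T1m ht1).1]⟩

theorem coe_mem_closure (g : GL (Fin 7) (ZMod 11)) (hg : g ∈ Spor.J1) :
    (g : Mat7) ∈ Submonoid.closure ({jankoMatrixX, jankoMatrixY} : Set Mat7) := by
  unfold Spor.J1 at hg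
  induction hg using Subgroup.closure_induction with
  | mem x hx =>
    apply Submonoid.subset_closure
    rcases hx with rfl | rfl
    · left; rfl
    · right; rfl
  | one => exact Submonoid.one_mem _
  | mul x y _ _ ihx ihy =>
    rw [Units.val_mul]
    exact Submonoid.mul_mem _ ihx ihy
  | inv x _ ih =>
    have hpos : 0 < orderOf x := orderOf_pos x
    have h1 : x⁻¹ = x ^ (orderOf x - 1) := by
      apply inv_eq_of_mul_eq_one_right
      rw [← pow_succ', Nat.sub_add_cancel hpos, pow_orderOf_eq_one]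
    rw [h1, Units.val_pow_eq_pow_val]
    exact Submonoid.pow_mem _ ih _

/-- every element of `J1` is a product of an element of `K` and a coset representative -/
theorem enum_J1 (g : GL (Fin 7) (ZMod 11)) (hg : g ∈ Spor.J1) :
    ∃ k ∈ T2m, ∃ t ∈ T1m, (g : Mat7) = toMat (mm k t) :=
  enum_mat _ (coe_mem_closure g hg)

theorem card_J1_le : Nat.card Spor.J1 ≤ 175560 := by
  classical
  have hfin : Finite (GL (Fin 7) (ZMod 11)) := inferInstance
  let F : Finset Mat7 := ((List.product T2m T1m).toFinset).image fun p => toMat (mm p.1 p.2)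
  have hF : F.card ≤ 175560 := by
    calc F.card ≤ (List.product T2m T1m).toFinset.card := Finset.card_image_le
      _ ≤ (List.product T2m T1m).length := List.toFinset_card_le _
      _ = 175560 := by
        have := List.length_product T2m T1m
        rw [T2m_length, T1m_length] at this
        exact this
  have hinj : Function.Injective (fun g : Spor.J1 => (⟨((g : GL (Fin 7) (ZMod 11)) : Mat7), by
      obtain ⟨k, hk, t, ht, e⟩ := enum_J1 g g.2
      rw [Finset.mem_image]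
      exact ⟨(k, t), by rw [List.mem_toFinset]; exact List.pair_mem_product.2 ⟨hk, ht⟩, e.symm⟩⟩ : F)) := by
    intro g h hgh
    have := congrArg Subtype.val hgh
    exact Subtype.ext (Units.ext this)
  calc Nat.card Spor.J1 ≤ Nat.card F := Nat.card_le_card_of_injective _ hinj
    _ = F.card := by rw [Nat.card_eq_fintype_card, Fintype.card_coe]
    _ ≤ 175560 := hF

end Cfsg.Agent.Lib.Helper9.J1
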