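import Mathlib

/-!
An abstract criterion for all automorphisms to be inner (helper9): generators `x` (an involution)
and `y` (of order three) with `(x y)^7 = (x y x y y)^19 = 1`.
-/

set_option autoImplicit false

namespace Cfsg.Agent.Lib.Helper9.J1

theorem inner_of_gen_2_3_7_19 {G : Type*} [Group G] (x y : G)
    (hx2 : x ^ 2 = 1) (hx1 : x ≠ 1) (hy3 : y ^ 3 = 1) (hxy : (x * y) ^ 7 = 1)
    (hW : (x * y * x * y * y) ^ 19 = 1)
    (H1 : ∀ x' : G, x' ^ 2 = 1 → x' ≠ 1 → ∃ k, x' = k * x * k⁻¹)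
    (H2 : ∀ y' : G, y' ^ 3 = 1 → (x * y') ^ 7 = 1 → (x * y' * x * y' * y') ^ 19 = 1 →
      ∃ c, c * x = x * c ∧ y' = c * y * c⁻¹)
    (H3 : Subgroup.closure {x, y} = ⊤) (α : MulAut G) : ∃ g, MulAut.conj g = α := by
  obtain ⟨k, hk⟩ := H1 (α x) (by rw [← map_pow, hx2, map_one])
    (fun h => hx1 (by simpa using h))
  have hβx : k⁻¹ * α x * k = x := by rw [hk]; group
  have conjp : ∀ (z : G) (n : ℕ), (k⁻¹ * z * k) ^ n = k⁻¹ * z ^ n * k := by
    intro z n
    have := conj_pow (a := k⁻¹) (b := z) (i := n)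
    simpa using this
  obtain ⟨c, hcx, hc⟩ := H2 (k⁻¹ * α y * k)
    (by rw [conjp, ← map_pow, hy3, map_one]; group)
    (by
      have : (x * (k⁻¹ * α y * k)) = k⁻¹ * α (x * y) * k := by
        rw [map_mul]; nth_rewrite 1 [← hβx]; group
      rw [this, conjp, ← map_pow, hxy, map_one]; group)
    (by
      have : (x * (k⁻¹ * α y * k) * x * (k⁻¹ * α y * k) * (k⁻¹ * α y * k)) =
          k⁻¹ * α (x * y * x * y * y) * k := by
        simp only [map_mul]
        nth_rewrite 1 [← hβx]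
        nth_rewrite 2 [← hβx]
        group
      rw [this, conjp, ← map_pow, hW, map_one]; group)
  refine ⟨k * c, ?_⟩
  have hgen : Set.EqOn (MulAut.conj (k * c)).toMonoidHom α.toMonoidHom
      (Subgroup.closure ({x, y} : Set G)) := by
    apply MonoidHom.eqOn_closure
    intro g hg
    show MulAut.conj (k * c) g = α g
    rcases hg with rfl | rfl
    · rw [MulAut.conj_apply, hk]
      have : k * c * g * (k * c)⁻¹ = k * (c * g * c⁻¹) * k⁻¹ := by group
      rw [this, hcx]; group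
    · rw [MulAut.conj_apply]
      have h1 : α g = k * (k⁻¹ * α g * k) * k⁻¹ := by group
      rw [h1, hc]; group
  ext g
  exact hgen (by rw [H3]; exact Subgroup.mem_top g)

end Cfsg.Agent.Lib.Helper9.J1
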