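import Cfsg.Agent.Lib.Helper9.J1.OutPass0
import Cfsg.Agent.Lib.Helper9.J1.OutPass1
import Cfsg.Agent.Lib.Helper9.J1.OutPass2
import Cfsg.Agent.Lib.Helper9.J1.OutPass3
import Cfsg.Agent.Lib.Helper9.J1.OutPass4
import Cfsg.Agent.Lib.Helper9.J1.OutPass5
import Cfsg.Agent.Lib.Helper9.J1.OutPass6
import Cfsg.Agent.Lib.Helper9.J1.OutAbs
import Cfsg.Agent.Lib.Helper9.J1.Main
import Cfsg.Prelude.Def_KGroupFacts

/-!
Every automorphism of the Janko group `J1` is inner (helper9).
-/

set_option autoImplicit false

namespace Cfsg.Agent.Lib.Helper9.J1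

open Cfsg

/-! ### vectors -/

theorem toVec_injective {R R' : ℕ} (h : ValidRow R) (h' : ValidRow R') (e : toVec R = toVec R') :
    R = R' := by
  apply row_eq_of_dg h h'
  intro k
  have h1 := congrFun e k
  unfold toVec at h1
  rw [ZMod.natCast_eq_natCast_iff'] at h1
  have ha := h.2 k
  have hb := h'.2 k
  omega

theorem validRow_one : ValidRow 1 := by decide +kernel

theorem vmW_cons (v : ℕ) (M : M7) (L : List M7) : vmW v (M :: L) = vmW (vm v M) L := by
  unfold vmW
  rw [List.foldl_cons]

theorem vmW_nil (v : ℕ) : vmW v [] = v := rfl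

theorem vmW_spec (L : List M7) (hL : ∀ M ∈ L, Valid M) : ∀ (v : ℕ), ValidRow v →
    ValidRow (vmW v L) ∧ toVec (vmW v L) = Matrix.vecMul (toVec v) (L.map toMat).prod := by
  induction L with
  | nil =>
    intro v hv
    refine ⟨hv, ?_⟩
    rw [List.map_nil, List.prod_nil, Matrix.vecMul_one]
    rfl
  | cons M L ih =>
    intro v hv
    have hM := hL M List.mem_cons_self
    have h1 := validRow_vm v M hv.2 hM
    have h2 := ih (fun N hN => hL N (List.mem_cons_of_mem _ hN)) (vm v M) h1
    rw [vmW_cons]
    refine ⟨h2.1, ?_⟩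
    rw [h2.2, toVec_vm v M hv.2 hM, List.map_cons, List.prod_cons, Matrix.vecMul_vecMul]

theorem test_of_prod_eq_one (L : List M7) (hL : ∀ M ∈ L, Valid M)
    (h : (L.map toMat).prod = 1) : Nat.beq (vmW 1 L) 1 = true := by
  obtain ⟨h1, h2⟩ := vmW_spec L hL 1 validRow_one
  rw [h, Matrix.vecMul_one] at h2
  rw [toVec_injective h1 validRow_one h2]
  rfl

theorem prod_repL (n : ℕ) (L : List M7) :
    ((repL n L).map toMat).prod = ((L.map toMat).prod) ^ n := by
  induction n with
  | zero => rfl
  | succ n ih =>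
    unfold repL at *
    rw [List.replicate_succ, List.flatten_cons, List.map_append, List.prod_append, ih, pow_succ']

theorem mem_repL {n : ℕ} {L : List M7} {M : M7} (h : M ∈ repL n L) : M ∈ L := by
  unfold repL at h
  rw [List.mem_flatten] at h
  obtain ⟨l, hl, hMl⟩ := h
  rw [List.eq_of_mem_replicate hl] at hMl
  exact hMl

/-- the matrix of an element of `J1` -/
def cm : ↥Spor.J1 →* Mat7 := (Units.coeHom Mat7).comp Spor.J1.subtype

theorem cm_el (A : M7) (h : InJ1 A) : cm (el A h) = toMat A := el_coe A h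

theorem cm_injective : Function.Injective cm := fun _ _ h => el_ext h

/-! ### the standard generators -/

theorem inJ1_PA2 : InJ1 PA2 := by
  rw [gen_ok.1]
  exact inJ1_ofCode ca2

theorem inJ1_PB3 : InJ1 PB3 := by
  rw [gen_ok.2.1]
  exact inJ1_ofCode cb3

/-- the standard involution -/
noncomputable def ga : ↥Spor.J1 := el PA2 inJ1_PA2
/-- the standard element of order three -/
noncomputable def gb : ↥Spor.J1 := el PB3 inJ1_PB3

theorem inJ1_evAB (w : List Bool) : InJ1 (evAB w) := by
  unfold evAB
  have : ∀ (A : M7), InJ1 A → InJ1 (w.foldl (fun A b => mm A (if b then PA2 else PB3)) A) := by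
    induction w with
    | nil => intro A hA; exact hA
    | cons b w ih =>
      intro A hA
      rw [List.foldl_cons]
      apply ih
      apply hA.mm
      cases b
      · exact inJ1_PB3
      · exact inJ1_PA2
  exact this I7 inJ1_I7

theorem el_evAB_mem (w : List Bool) :
    el (evAB w) (inJ1_evAB w) ∈ Subgroup.closure ({ga, gb} : Set ↥Spor.J1) := by
  have key : ∀ (A : M7) (hA : InJ1 A), el A hA ∈ Subgroup.closure ({ga, gb} : Set ↥Spor.J1) →
      ∀ (B : M7) (hB : InJ1 B), B = w.foldl (fun A b => mm A (if b then PA2 else PB3)) A →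
        el B hB ∈ Subgroup.closure ({ga, gb} : Set ↥Spor.J1) := by
    induction w with
    | nil =>
      intro A hA h B hB e
      rw [List.foldl_nil] at e
      rw [el_congr e hB hA]
      exact h
    | cons b w ih =>
      intro A hA h B hB e
      rw [List.foldl_cons] at e
      have hg : InJ1 (if b then PA2 else PB3) := by
        cases b
        · exact inJ1_PB3
        · exact inJ1_PA2
      refine ih _ (hA.mm hg) ?_ B hB e
      rw [← el_mul A _ hA hg]
      apply Subgroup.mul_mem _ h
      apply Subgroup.subset_closure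
      cases b
      · right; rfl
      · left; rfl
  exact key I7 inJ1_I7 (by rw [el_I7]; exact Subgroup.one_mem _) _ _ rfl

theorem closure_ga_gb : Subgroup.closure ({ga, gb} : Set ↥Spor.J1) = ⊤ := by
  rw [eq_top_iff, ← closure_gXY, Subgroup.closure_le]
  intro g hg
  rcases hg with rfl | rfl
  · have := el_evAB_mem wX2
    rw [el_congr gen_ok.2.2.2.2.2.1 _ inJ1_PX] at this
    exact this
  · have := el_evAB_mem wY2
    rw [el_congr gen_ok.2.2.2.2.2.2 _ inJ1_PY] at this
    exact this

theorem ga_sq : ga ^ 2 = 1 := by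
  unfold ga
  rw [el_pow]
  have h : powP PA2 2 = I7 := by
    rw [gen_ok.1]
    exact ord_ok.1.1
  rw [el_congr h _ inJ1_I7, el_I7]

theorem ga_ne : ga ≠ 1 := by
  apply el_ne_one
  rw [gen_ok.1]
  exact ord_ok.1.2

theorem gb_cube : gb ^ 3 = 1 := by
  unfold gb
  rw [el_pow, el_congr gen_ok.2.2.1 _ inJ1_I7, el_I7]

theorem gab_pow : (ga * gb) ^ 7 = 1 := by
  unfold ga gb
  rw [el_mul, el_pow, el_congr gen_ok.2.2.2.1 _ inJ1_I7, el_I7]

theorem gword_pow : (ga * gb * ga * gb * gb) ^ 19 = 1 := by
  unfold ga gb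
  rw [el_mul, el_mul, el_mul, el_mul, el_pow, el_congr gen_ok.2.2.2.2.1 _ inJ1_I7, el_I7]

/-! ### involutions are conjugate -/

theorem inv_conj (x' : ↥Spor.J1) (h2 : x' ^ 2 = 1) (h1 : x' ≠ 1) : ∃ k, x' = k * ga * k⁻¹ := by
  have : Fact (Nat.Prime 2) := ⟨Nat.prime_two⟩
  obtain ⟨c, hc⟩ := exists_conj_mem_of_card 2 E8 3 (by rw [card_E8]; norm_num)
    (by rw [card_J1]; norm_num) x' h2
  obtain ⟨A, hA, e⟩ := (mem_E8_iff _).1 hc
  have hne : A ≠ I7 := by
    rintro rfl
    rw [el_I7] at e
    apply h1
    have : x' = c⁻¹ * (c * x' * c⁻¹) * c := by group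
    rw [this, e]
    group
  rcases conj2_cover A hA with h | ⟨e', he', hAe⟩
  · exact absurd h hne
  have hcj := conj2_ok
  unfold chkConj2 at hcj
  rw [List.all_eq_true] at hcj
  have hce := hcj e' he'
  rw [Bool.and_eq_true] at hce
  have hu := inJ1_ofCode e'.1
  have hu' := inJ1_ofCode e'.2.1
  have ha := inJ1_ofCode ca2
  have hga : ga = el (ofCode ca2) ha := el_congr gen_ok.1 _ _
  have e1 : el A (inJ1_L8m hA) = el (ofCode e'.1) hu * ga * (el (ofCode e'.1) hu)⁻¹ := by
    rw [hga, ← el_inv_of hu hu' (M7.eq_of_beq hce.2), el_mul, el_mul]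
    exact el_congr ((M7.eq_of_beq hce.1).trans hAe).symm _ _
  refine ⟨c⁻¹ * el (ofCode e'.1) hu, ?_⟩
  have : x' = c⁻¹ * (c * x' * c⁻¹) * c := by group
  rw [this, e, e1]
  group

/-! ### partners of the involution -/

theorem pass_all : ∀ t ∈ T1m, ∀ k ∈ T2m, chkY k t = true := by
  intro t ht k hk
  rw [chunks_eq] at ht
  simp only [List.mem_append] at ht
  have h : ∀ i, chkChunk (chunk i) = true → t ∈ chunk i → chkY k t = true := by
    intro i hc hti
    unfold chkChunk at hc
    rw [List.all_eq_true] at hc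
    have := hc t hti
    rw [List.all_eq_true] at this
    exact this k hk
  rcases ht with h0 | h1 | h2 | h3 | h4 | h5 | h6
  · exact h 0 pass_0 h0
  · exact h 1 pass_1 h1
  · exact h 2 pass_2 h2
  · exact h 3 pass_3 h3
  · exact h 4 pass_4 h4
  · exact h 5 pass_5 h5
  · exact h 6 pass_6 h6

theorem cm_ga : cm ga = toMat PA2 := cm_el _ _

theorem partner_conj (y' : ↥Spor.J1) (h3 : y' ^ 3 = 1) (h7 : (ga * y') ^ 7 = 1)
    (h19 : (ga * y' * ga * y' * y') ^ 19 = 1) : ∃ c, c * ga = ga * c ∧ y' = c * gb * c⁻¹ := by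
  obtain ⟨k, t, hk, ht, e⟩ := exists_code y'
  have ik := inJ1_T2m hk
  have it := inJ1_T1m ht
  have hy : cm y' = toMat k * toMat t := by
    rw [e, cm_el, toMat_mm k t ik.1 it.1]
  have hval : ∀ L : List M7, (∀ M ∈ L, M = PA2 ∨ M = k ∨ M = t) → ∀ M ∈ L, Valid M := by
    intro L hL M hM
    rcases hL M hM with rfl | rfl | rfl
    · exact inJ1_PA2.1
    · exact ik.1
    · exact it.1
  have t1 : Nat.beq (vm (vm (vm (vm (vm (vm (nat_lit 1) k) t) k) t) k) t) (nat_lit 1) = true := by
    have hL : ∀ M ∈ repL 3 [k, t], Valid M := by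
      apply hval
      intro M hM
      have := mem_repL hM
      simp only [List.mem_cons, List.not_mem_nil, or_false] at this
      tauto
    have h1 := test_of_prod_eq_one (repL 3 [k, t]) hL (by
      rw [prod_repL]
      simp only [List.map_cons, List.map_nil, List.prod_cons, List.prod_nil, mul_one]
      rw [← hy, ← map_pow, h3, map_one])
    have hl : repL 3 [k, t] = [k, t, k, t, k, t] := rfl
    rw [hl, vmW_cons, vmW_cons, vmW_cons, vmW_cons, vmW_cons, vmW_cons, vmW_nil] at h1
    exact h1
  have t2 : Nat.beq (vmW 1 (repL 7 [PA2, k, t])) 1 = true := by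
    have hL : ∀ M ∈ repL 7 [PA2, k, t], Valid M := by
      apply hval
      intro M hM
      have := mem_repL hM
      simp only [List.mem_cons, List.not_mem_nil, or_false] at this
      exact this
    exact test_of_prod_eq_one (repL 7 [PA2, k, t]) hL (by
      rw [prod_repL]
      simp only [List.map_cons, List.map_nil, List.prod_cons, List.prod_nil, mul_one]
      rw [← hy, ← cm_ga, ← map_mul, ← map_pow, h7, map_one])
  have t3 : Nat.beq (vmW 1 (repL 19 [PA2, k, t, PA2, k, t, k, t])) 1 = true := by
    have hL : ∀ M ∈ repL 19 [PA2, k, t, PA2, k, t, k, t], Valid M := by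
      apply hval
      intro M hM
      have := mem_repL hM
      simp only [List.mem_cons, List.not_mem_nil, or_false] at this
      rcases this with h | h | h | h | h | h | h | h
      · left; exact h
      · right; left; exact h
      · right; right; exact h
      · left; exact h
      · right; left; exact h
      · right; right; exact h
      · right; left; exact h
      · right; right; exact h
    exact test_of_prod_eq_one (repL 19 [PA2, k, t, PA2, k, t, k, t]) hL (by
      rw [prod_repL]
      simp only [List.map_cons, List.map_nil, List.prod_cons, List.prod_nil, mul_one]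
      have : toMat PA2 * (toMat k * (toMat t * (toMat PA2 * (toMat k * (toMat t * (toMat k * toMat t)))))) =
          cm (ga * y' * ga * y' * y') := by
        simp only [map_mul, hy, cm_ga]
        simp only [mul_assoc]
      rw [this, ← map_pow, h19, map_one])
  have hrel : relY k t = true := by
    unfold relY
    rw [Bool.and_eq_true, Bool.and_eq_true]
    exact ⟨t1, t2, t3⟩
  have hchk := pass_all t ht k hk
  unfold chkY at hchk
  rw [hrel] at hchk
  simp only [Bool.not_true, Bool.false_or, List.any_eq_true] at hchk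
  obtain ⟨e', he', hbeq⟩ := hchk
  have hmat := M7.eq_of_beq hbeq
  obtain ⟨c1, c2, c3⟩ := conjY_ok e' he'
  have hc := inJ1_ofCode e'.2.1
  have hc' := inJ1_ofCode e'.2.2
  refine ⟨el (ofCode e'.2.1) hc, ?_, ?_⟩
  · unfold ga
    rw [el_mul, el_mul]
    exact el_congr c3 _ _
  · rw [← el_inv_of hc hc' c2]
    unfold gb
    rw [el_mul, el_mul, e]
    exact el_congr (hmat.symm.trans c1.symm) _ _

/-- Every automorphism of `J1` is inner. -/
theorem aut_inner (α : MulAut ↥Spor.J1) : ∃ g, MulAut.conj g = α :=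
  inner_of_gen_2_3_7_19 ga gb ga_sq ga_ne gb_cube gab_pow gword_pow inv_conj partner_conj
    closure_ga_gb α

/-- The outer automorphism group of `J1` is trivial. -/
theorem card_out : Nat.card (Cfsg.Out ↥Spor.J1) = 1 := by
  have : Subsingleton (Cfsg.Out ↥Spor.J1) := by
    constructor
    intro a b
    induction a using QuotientGroup.induction_on with
    | H a =>
      induction b using QuotientGroup.induction_on with
      | H b =>
        rw [QuotientGroup.eq]
        obtain ⟨g, hg⟩ := aut_inner (a⁻¹ * b)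
        exact ⟨g, hg⟩
  exact Nat.card_of_subsingleton 1

end Cfsg.Agent.Lib.Helper9.J1
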