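import Cfsg.Agent.Lib.Helper9.J1.OutCert

/-!
The enumeration of `J1` for its automorphisms, part 0 (helper9): checked by the kernel.
-/

set_option autoImplicit false

namespace Cfsg.Agent.Lib.Helper9.J1

theorem pass_0 : chkChunk (chunk 0) = true := by decide +kernel

end Cfsg.Agent.Lib.Helper9.J1
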