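import Mathlib
import Cfsg.Prelude.Def_Spor_J1

/-!
Packed `7 × 7` matrices over the integers modulo `11` (helper9): rows are natural numbers with
fields of `16` bits; products are computed with a few operations on natural numbers, which the
kernel evaluates quickly.
-/

set_option autoImplicit false

namespace Cfsg.Agent.Lib.Helper9.J1

/-- a packed matrix: seven packed rows -/
structure M7 where
  r0 : ℕ
  r1 : ℕ
  r2 : ℕ
  r3 : ℕ
  r4 : ℕ
  r5 : ℕ
  r6 : ℕ
deriving DecidableEq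

/-- the field `i` of a packed row -/
def dg (V i : ℕ) : ℕ := V / 65536 ^ i % 65536

/-- the rows -/
def M7.row (A : M7) : Fin 7 → ℕ := ![A.r0, A.r1, A.r2, A.r3, A.r4, A.r5, A.r6]

/-- reduction of one field modulo `11` -/
def rd (S k : ℕ) : ℕ := Nat.shiftLeft (Nat.mod (Nat.mod (Nat.shiftRight S k) (nat_lit 65536)) (nat_lit 11)) k

/-- reduction of all fields modulo `11` -/
def red (S : ℕ) : ℕ :=
  Nat.add (rd S (nat_lit 0)) (Nat.add (rd S (nat_lit 16)) (Nat.add (rd S (nat_lit 32))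
    (Nat.add (rd S (nat_lit 48)) (Nat.add (rd S (nat_lit 64)) (Nat.add (rd S (nat_lit 80))
      (rd S (nat_lit 96)))))))

/-- a field, computed quickly -/
def fld (v k : ℕ) : ℕ := Nat.mod (Nat.shiftRight v k) (nat_lit 65536)

/-- the unreduced product of a packed row vector and a packed matrix -/
def vmS (v : ℕ) (M : M7) : ℕ :=
  Nat.add (Nat.mul (fld v (nat_lit 0)) M.r0) (Nat.add (Nat.mul (fld v (nat_lit 16)) M.r1)
    (Nat.add (Nat.mul (fld v (nat_lit 32)) M.r2) (Nat.add (Nat.mul (fld v (nat_lit 48)) M.r3)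
      (Nat.add (Nat.mul (fld v (nat_lit 64)) M.r4) (Nat.add (Nat.mul (fld v (nat_lit 80)) M.r5)
        (Nat.mul (fld v (nat_lit 96)) M.r6))))))

/-- the product of a packed row vector and a packed matrix -/
def vm (v : ℕ) (M : M7) : ℕ := red (vmS v M)

/-- the product of packed matrices -/
def mm (A B : M7) : M7 :=
  ⟨vm A.r0 B, vm A.r1 B, vm A.r2 B, vm A.r3 B, vm A.r4 B, vm A.r5 B, vm A.r6 B⟩

/-- equality of packed matrices, computed quickly -/
def M7.beq (A B : M7) : Bool :=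
  Nat.beq A.r0 B.r0 && (Nat.beq A.r1 B.r1 && (Nat.beq A.r2 B.r2 && (Nat.beq A.r3 B.r3 &&
    (Nat.beq A.r4 B.r4 && (Nat.beq A.r5 B.r5 && Nat.beq A.r6 B.r6)))))

theorem M7.eq_of_beq {A B : M7} (h : A.beq B = true) : A = B := by
  unfold M7.beq at h
  simp only [Bool.and_eq_true] at h
  obtain ⟨h0, h1, h2, h3, h4, h5, h6⟩ := h
  cases A; cases B
  simp only [M7.mk.injEq]
  exact ⟨Nat.eq_of_beq_eq_true h0, Nat.eq_of_beq_eq_true h1, Nat.eq_of_beq_eq_true h2,
    Nat.eq_of_beq_eq_true h3, Nat.eq_of_beq_eq_true h4, Nat.eq_of_beq_eq_true h5,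
    Nat.eq_of_beq_eq_true h6⟩

theorem M7.beq_self (A : M7) : A.beq A = true := by
  unfold M7.beq
  simp [Nat.beq_refl]

/-- a packed row is valid: fields at most `10`, nothing above the seventh field -/
def ValidRow (R : ℕ) : Prop := R < 65536 ^ 7 ∧ ∀ k : Fin 7, dg R k ≤ 10

instance : DecidablePred ValidRow := fun R => by unfold ValidRow; infer_instance

/-- a packed matrix is valid -/
def Valid (A : M7) : Prop := ∀ i : Fin 7, ValidRow (A.row i)

instance : DecidablePred Valid := fun A => by unfold Valid; infer_instance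

/-- the matrix of a packed matrix -/
def toMat (A : M7) : Matrix (Fin 7) (Fin 7) (ZMod 11) := fun i j => ((dg (A.row i) j : ℕ) : ZMod 11)

/-- the vector of a packed row -/
def toVec (R : ℕ) : Fin 7 → ZMod 11 := fun j => ((dg R j : ℕ) : ZMod 11)

theorem fld_eq (v : ℕ) (i : ℕ) : fld v (16 * i) = dg v i := by
  unfold fld dg
  show (v >>> (16 * i)) % 65536 = _
  rw [Nat.shiftRight_eq_div_pow, pow_mul]
  norm_num

theorem expand (R : ℕ) (h : R < 65536 ^ 7) :
    R = dg R 0 + dg R 1 * 65536 + dg R 2 * 65536 ^ 2 + dg R 3 * 65536 ^ 3 + dg R 4 * 65536 ^ 4 +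
      dg R 5 * 65536 ^ 5 + dg R 6 * 65536 ^ 6 := by
  unfold dg
  norm_num at h ⊢
  omega

theorem digit (c0 c1 c2 c3 c4 c5 c6 : ℕ) (h0 : c0 < 65536) (h1 : c1 < 65536) (h2 : c2 < 65536)
    (h3 : c3 < 65536) (h4 : c4 < 65536) (h5 : c5 < 65536) (h6 : c6 < 65536) (S : ℕ)
    (hS : S = c0 + c1 * 65536 + c2 * 65536 ^ 2 + c3 * 65536 ^ 3 + c4 * 65536 ^ 4 +
      c5 * 65536 ^ 5 + c6 * 65536 ^ 6) :
    dg S 0 = c0 ∧ dg S 1 = c1 ∧ dg S 2 = c2 ∧ dg S 3 = c3 ∧ dg S 4 = c4 ∧ dg S 5 = c5 ∧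
      dg S 6 = c6 := by
  unfold dg
  norm_num at hS ⊢
  refine ⟨?_, ?_, ?_, ?_, ?_, ?_, ?_⟩ <;> omega

theorem lin7 (a R : Fin 7 → ℕ) (d : Fin 7 → Fin 7 → ℕ)
    (hR : ∀ j, R j = ∑ k : Fin 7, d j k * 65536 ^ (k : ℕ)) :
    ∑ j, a j * R j = ∑ k : Fin 7, (∑ j, a j * d j k) * 65536 ^ (k : ℕ) := by
  simp_rw [hR, Finset.mul_sum, Finset.sum_mul]
  rw [Finset.sum_comm]
  apply Finset.sum_congr rfl
  intro k _
  apply Finset.sum_congr rfl
  intro j _
  ring

/-- the coefficient of the unreduced product -/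
def cf (v : ℕ) (M : M7) (k : Fin 7) : ℕ := ∑ j : Fin 7, dg v j * dg (M.row j) k

theorem cf_le (v : ℕ) (M : M7) (hv : ∀ j : Fin 7, dg v j ≤ 10) (hM : Valid M) (k : Fin 7) :
    cf v M k ≤ 700 := by
  unfold cf
  calc ∑ j : Fin 7, dg v j * dg (M.row j) k ≤ ∑ _j : Fin 7, 100 := by
        apply Finset.sum_le_sum
        intro j _
        exact Nat.mul_le_mul (hv j) ((hM j).2 k)
    _ = 700 := by simp

theorem vmS_eq (v : ℕ) (M : M7) (hM : Valid M) :
    vmS v M = cf v M 0 + cf v M 1 * 65536 + cf v M 2 * 65536 ^ 2 + cf v M 3 * 65536 ^ 3 +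
      cf v M 4 * 65536 ^ 4 + cf v M 5 * 65536 ^ 5 + cf v M 6 * 65536 ^ 6 := by
  have h1 : vmS v M = ∑ j : Fin 7, dg v j * M.row j := by
    rw [Fin.sum_univ_seven]
    show fld v 0 * M.r0 + (fld v 16 * M.r1 + (fld v 32 * M.r2 + (fld v 48 * M.r3 +
      (fld v 64 * M.r4 + (fld v 80 * M.r5 + fld v 96 * M.r6))))) = _
    rw [show fld v 0 = dg v 0 from fld_eq v 0, show fld v 16 = dg v 1 from fld_eq v 1,
      show fld v 32 = dg v 2 from fld_eq v 2, show fld v 48 = dg v 3 from fld_eq v 3,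
      show fld v 64 = dg v 4 from fld_eq v 4, show fld v 80 = dg v 5 from fld_eq v 5,
      show fld v 96 = dg v 6 from fld_eq v 6]
    simp only [M7.row, Matrix.cons_val_zero, Matrix.cons_val_one, Matrix.cons_val]
    have e0 : ((0 : Fin 7) : ℕ) = 0 := rfl
    have e1 : ((1 : Fin 7) : ℕ) = 1 := rfl
    have e2 : ((2 : Fin 7) : ℕ) = 2 := rfl
    have e3 : ((3 : Fin 7) : ℕ) = 3 := rfl
    have e4 : ((4 : Fin 7) : ℕ) = 4 := rfl
    have e5 : ((5 : Fin 7) : ℕ) = 5 := rfl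
    have e6 : ((6 : Fin 7) : ℕ) = 6 := rfl
    rw [e0, e1, e2, e3, e4, e5, e6]
    ring
  have h2 := lin7 (fun j => dg v j) M.row (fun j k => dg (M.row j) k) (by
    intro j
    rw [Fin.sum_univ_seven]
    have := expand (M.row j) (hM j).1
    simpa using this)
  rw [h1, h2, Fin.sum_univ_seven]
  simp only [cf]
  norm_num

theorem rd_eq (S k : ℕ) : rd S (16 * k) = dg S k % 11 * 65536 ^ k := by
  unfold rd dg
  show ((S >>> (16 * k)) % 65536 % 11) <<< (16 * k) = _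
  rw [Nat.shiftLeft_eq, Nat.shiftRight_eq_div_pow, pow_mul]
  norm_num

theorem red_eq (S : ℕ) : red S = dg S 0 % 11 + dg S 1 % 11 * 65536 + dg S 2 % 11 * 65536 ^ 2 +
    dg S 3 % 11 * 65536 ^ 3 + dg S 4 % 11 * 65536 ^ 4 + dg S 5 % 11 * 65536 ^ 5 +
    dg S 6 % 11 * 65536 ^ 6 := by
  unfold red
  show rd S 0 + (rd S 16 + (rd S 32 + (rd S 48 + (rd S 64 + (rd S 80 + rd S 96))))) = _
  rw [show rd S 0 = _ from rd_eq S 0, show rd S 16 = _ from rd_eq S 1,
    show rd S 32 = _ from rd_eq S 2, show rd S 48 = _ from rd_eq S 3,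
    show rd S 64 = _ from rd_eq S 4, show rd S 80 = _ from rd_eq S 5,
    show rd S 96 = _ from rd_eq S 6]
  ring

theorem dg_vm (v : ℕ) (M : M7) (hv : ∀ j : Fin 7, dg v j ≤ 10) (hM : Valid M) :
    vm v M < 65536 ^ 7 ∧ ∀ k : Fin 7, dg (vm v M) k = cf v M k % 11 := by
  have hS := vmS_eq v M hM
  have hc : ∀ k, cf v M k < 65536 := fun k =>
    lt_of_le_of_lt (cf_le v M hv hM k) (by norm_num)
  obtain ⟨d0, d1, d2, d3, d4, d5, d6⟩ := digit _ _ _ _ _ _ _ (hc 0) (hc 1) (hc 2) (hc 3) (hc 4)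
    (hc 5) (hc 6) (vmS v M) hS
  have hr : vm v M = cf v M 0 % 11 + cf v M 1 % 11 * 65536 + cf v M 2 % 11 * 65536 ^ 2 +
      cf v M 3 % 11 * 65536 ^ 3 + cf v M 4 % 11 * 65536 ^ 4 + cf v M 5 % 11 * 65536 ^ 5 +
      cf v M 6 % 11 * 65536 ^ 6 := by
    unfold vm
    rw [red_eq, d0, d1, d2, d3, d4, d5, d6]
  have hm : ∀ k, cf v M k % 11 < 11 := fun k => Nat.mod_lt _ (by norm_num)
  have hm' : ∀ k, cf v M k % 11 < 65536 := fun k => lt_trans (hm k) (by norm_num)
  obtain ⟨f0, f1, f2, f3, f4, f5, f6⟩ := digit _ _ _ _ _ _ _ (hm' 0) (hm' 1) (hm' 2) (hm' 3)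
    (hm' 4) (hm' 5) (hm' 6) (vm v M) hr
  constructor
  · have g0 := hm 0; have g1 := hm 1; have g2 := hm 2; have g3 := hm 3; have g4 := hm 4
    have g5 := hm 5; have g6 := hm 6
    rw [hr]
    norm_num
    omega
  · intro k
    fin_cases k
    · exact f0
    · exact f1
    · exact f2
    · exact f3
    · exact f4
    · exact f5
    · exact f6

theorem validRow_vm (v : ℕ) (M : M7) (hv : ∀ j : Fin 7, dg v j ≤ 10) (hM : Valid M) :
    ValidRow (vm v M) := by
  obtain ⟨h1, h2⟩ := dg_vm v M hv hM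
  refine ⟨h1, fun k => ?_⟩
  rw [h2 k]
  have := Nat.mod_lt (cf v M k) (by norm_num : 11 > 0)
  omega

theorem toVec_vm (v : ℕ) (M : M7) (hv : ∀ j : Fin 7, dg v j ≤ 10) (hM : Valid M) :
    toVec (vm v M) = Matrix.vecMul (toVec v) (toMat M) := by
  obtain ⟨_, h2⟩ := dg_vm v M hv hM
  funext k
  unfold toVec
  rw [h2 k, ZMod.natCast_mod]
  unfold cf Matrix.vecMul dotProduct toMat
  push_cast
  rfl

theorem row_mm (A B : M7) (i : Fin 7) : (mm A B).row i = vm (A.row i) B := by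
  fin_cases i <;> simp [M7.row, mm]

theorem valid_mm (A B : M7) (hA : Valid A) (hB : Valid B) : Valid (mm A B) := by
  intro i
  have h : (mm A B).row i = vm (A.row i) B := row_mm A B i
  rw [h]
  exact validRow_vm _ _ (hA i).2 hB

theorem toMat_mm (A B : M7) (hA : Valid A) (hB : Valid B) :
    toMat (mm A B) = toMat A * toMat B := by
  funext i
  have h : (mm A B).row i = vm (A.row i) B := row_mm A B i
  have h1 : toMat (mm A B) i = toVec ((mm A B).row i) := rfl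
  rw [h1, h, toVec_vm _ _ (hA i).2 hB]
  funext k
  rfl

end Cfsg.Agent.Lib.Helper9.J1
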