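import Cfsg.Agent.Lib.Helper9.J1.SimpleData
import Cfsg.Agent.Lib.Helper9.J1.Abstract
import Cfsg.Prelude.Def_Sporadic

/-!
The Janko group `J1` has order `175560` and is simple (helper9).
-/

set_option autoImplicit false

namespace Cfsg.Agent.Lib.Helper9.J1

open Cfsg

/-! ### elements from packed matrices -/

/-- the matrix of a code -/
def ofCode (c : ℕ × ℕ) : M7 := mm (T2m.getD c.1 I7) (T1m.getD c.2 I7)

theorem inJ1_ofCode (c : ℕ × ℕ) : InJ1 (ofCode c) :=
  (inJ1_T2m (getD_mem I7_mem_T2m _)).mm (inJ1_T1m (getD_mem I7_mem_T1m _))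

/-- powers of packed matrices -/
def powP (A : M7) : ℕ → M7
  | 0 => I7
  | n + 1 => mm (powP A n) A

theorem inJ1_powP {A : M7} (hA : InJ1 A) (n : ℕ) : InJ1 (powP A n) := by
  induction n with
  | zero => exact inJ1_I7
  | succ n ih => exact ih.mm hA

/-- the element of `J1` of a packed matrix -/
noncomputable def el (A : M7) (h : InJ1 A) : ↥Spor.J1 := ⟨h.2.choose, h.2.choose_spec.1⟩

theorem el_coe (A : M7) (h : InJ1 A) :
    (((el A h : ↥Spor.J1) : GL (Fin 7) (ZMod 11)) : Mat7) = toMat A := h.2.choose_spec.2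

theorem el_ext {g g' : ↥Spor.J1}
    (h : ((g : GL (Fin 7) (ZMod 11)) : Mat7) = ((g' : GL (Fin 7) (ZMod 11)) : Mat7)) : g = g' :=
  Subtype.ext (Units.ext h)

theorem el_congr {A B : M7} (h : A = B) (hA : InJ1 A) (hB : InJ1 B) : el A hA = el B hB := by
  subst h
  rfl

theorem el_mul (A B : M7) (hA : InJ1 A) (hB : InJ1 B) :
    el A hA * el B hB = el (mm A B) (hA.mm hB) := by
  apply el_ext
  rw [Subgroup.coe_mul, Units.val_mul, el_coe, el_coe, el_coe, toMat_mm A B hA.1 hB.1]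

theorem el_I7 : el I7 inJ1_I7 = 1 := by
  apply el_ext
  rw [el_coe, toMat_I7]
  rfl

theorem el_pow (A : M7) (hA : InJ1 A) (n : ℕ) : el A hA ^ n = el (powP A n) (inJ1_powP hA n) := by
  induction n with
  | zero => rw [pow_zero]; exact el_I7.symm
  | succ n ih => rw [pow_succ, ih, el_mul]; rfl

theorem row_eq_of_dg {R R' : ℕ} (h : ValidRow R) (h' : ValidRow R')
    (e : ∀ k : Fin 7, dg R k = dg R' k) : R = R' := by
  rw [expand R h.1, expand R' h'.1]
  have e0 := e 0; have e1 := e 1; have e2 := e 2; have e3 := e 3; have e4 := e 4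
  have e5 := e 5; have e6 := e 6
  simp only [Fin.val_zero, Fin.val_one, Fin.val_two] at e0 e1 e2
  have f3 : dg R 3 = dg R' 3 := e3
  have f4 : dg R 4 = dg R' 4 := e4
  have f5 : dg R 5 = dg R' 5 := e5
  have f6 : dg R 6 = dg R' 6 := e6
  rw [e0, e1, e2, f3, f4, f5, f6]

theorem toMat_injective {A B : M7} (hA : Valid A) (hB : Valid B) (h : toMat A = toMat B) :
    A = B := by
  have hrow : ∀ i : Fin 7, A.row i = B.row i := by
    intro i
    apply row_eq_of_dg (hA i) (hB i)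
    intro k
    have h1 := congrFun (congrFun h i) k
    unfold toMat at h1
    rw [ZMod.natCast_eq_natCast_iff'] at h1
    have ha := (hA i).2 k
    have hb := (hB i).2 k
    omega
  have h0 := hrow 0; have h1 := hrow 1; have h2 := hrow 2; have h3 := hrow 3
  have h4 := hrow 4; have h5 := hrow 5; have h6 := hrow 6
  cases A; cases B
  simp only [M7.mk.injEq]
  exact ⟨h0, h1, h2, h3, h4, h5, h6⟩

theorem el_inj {A B : M7} (hA : InJ1 A) (hB : InJ1 B) (h : el A hA = el B hB) : A = B := by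
  apply toMat_injective hA.1 hB.1
  rw [← el_coe A hA, ← el_coe B hB, h]

theorem el_ne_one {A : M7} (hA : InJ1 A) (hne : A ≠ I7) : el A hA ≠ 1 := by
  intro h
  rw [← el_I7] at h
  exact hne (el_inj hA inJ1_I7 h)

theorem el_PX : ((el PX inJ1_PX : ↥Spor.J1) : GL (Fin 7) (ZMod 11)) = Spor.jankoX := by
  apply Units.ext
  rw [el_coe, toMat_PX]
  rfl

theorem el_PY : ((el PY inJ1_PY : ↥Spor.J1) : GL (Fin 7) (ZMod 11)) = Spor.jankoY := by
  apply Units.ext
  rw [el_coe, toMat_PY]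
  rfl

/-- every element of `J1` comes from a code -/
theorem exists_code (g : ↥Spor.J1) : ∃ (k t : M7) (hk : k ∈ T2m) (ht : t ∈ T1m),
    g = el (mm k t) ((inJ1_T2m hk).mm (inJ1_T1m ht)) := by
  obtain ⟨k, hk, t, ht, e⟩ := enum_J1 g g.2
  refine ⟨k, t, hk, ht, ?_⟩
  apply el_ext
  rw [el_coe, e]

end Cfsg.Agent.Lib.Helper9.J1
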