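import Cfsg.Agent.Lib.Helper9.J1.Simple

/-!
Kernel-checked certificates for the order and the simplicity of `J1` (helper9).
-/

set_option autoImplicit false

namespace Cfsg.Agent.Lib.Helper9.J1

/-- the matrices of the Sylow `2`-subgroup -/
def L8m : List M7 := L8c.map ofCode

/-- a generator is a product of two conjugates of a given element -/
def chkCert (a target : M7) (c : (ℕ × ℕ) × (ℕ × ℕ) × (ℕ × ℕ) × (ℕ × ℕ)) : Bool :=
  (mm (mm (mm (ofCode c.1) a) (ofCode c.2.1)) (mm (mm (ofCode c.2.2.1) a) (ofCode c.2.2.2))).beq target &&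
    ((mm (ofCode c.1) (ofCode c.2.1)).beq I7 && (mm (ofCode c.2.2.1) (ofCode c.2.2.2)).beq I7)

/-- the involutions of the Sylow `2`-subgroup are conjugate to the first one -/
def chkConj2 : Bool :=
  conj2c.all fun e => (mm (mm (ofCode e.1) (ofCode ca2)) (ofCode e.2.1)).beq (ofCode e.2.2) &&
    (mm (ofCode e.1) (ofCode e.2.1)).beq I7

theorem ord_ok : (powP (ofCode ca2) 2 = I7 ∧ ofCode ca2 ≠ I7) ∧
    (powP (ofCode ca3) 3 = I7 ∧ ofCode ca3 ≠ I7) ∧ (powP (ofCode ca5) 5 = I7 ∧ ofCode ca5 ≠ I7) ∧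
    (powP (ofCode ca7) 7 = I7 ∧ ofCode ca7 ≠ I7) ∧
    (powP (ofCode ca11) 11 = I7 ∧ ofCode ca11 ≠ I7) ∧
    (powP (ofCode ca19) 19 = I7 ∧ ofCode ca19 ≠ I7) := by decide +kernel

theorem L8_ok : I7 ∈ L8m ∧ L8m.Nodup ∧ (∀ A ∈ L8m, ∀ B ∈ L8m, mm A B ∈ L8m) ∧
    L8m.length = 8 ∧ ∀ A ∈ L8m, mm A A = I7 := by decide +kernel

theorem conj2_ok : chkConj2 = true := by decide +kernel

theorem conj2_cover : ∀ A ∈ L8m, A = I7 ∨ ∃ e ∈ conj2c, ofCode e.2.2 = A := by decide +kernel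

theorem cert_ok : (chkCert (ofCode ca2) PX cert2X = true ∧ chkCert (ofCode ca2) PY cert2Y = true) ∧
    (chkCert (ofCode ca3) PX cert3X = true ∧ chkCert (ofCode ca3) PY cert3Y = true) ∧
    (chkCert (ofCode ca5) PX cert5X = true ∧ chkCert (ofCode ca5) PY cert5Y = true) ∧
    (chkCert (ofCode ca7) PX cert7X = true ∧ chkCert (ofCode ca7) PY cert7Y = true) ∧
    (chkCert (ofCode ca11) PX cert11X = true ∧ chkCert (ofCode ca11) PY cert11Y = true) ∧
    (chkCert (ofCode ca19) PX cert19X = true ∧ chkCert (ofCode ca19) PY cert19Y = true) := by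
  decide +kernel

end Cfsg.Agent.Lib.Helper9.J1
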