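import Cfsg.Agent.Lib.Helper9.J1.Order

/-!
Data for the simplicity of the Janko group `J1` (generated offline, checked by the kernel) (helper9).
Elements are given by codes: positions in the lists of the elements of `K` and of the coset
representatives.
-/

set_option autoImplicit false

namespace Cfsg.Agent.Lib.Helper9.J1

/-- an element of order 2 -/
def ca2 : ℕ × ℕ := (610, 24)
/-- an element of order 3 -/
def ca3 : ℕ × ℕ := (256, 0)
/-- an element of order 5 -/
def ca5 : ℕ × ℕ := (0, 2)
/-- an element of order 7 -/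
def ca7 : ℕ × ℕ := (0, 1)
/-- an element of order 11 -/
def ca11 : ℕ × ℕ := (0, 10)
/-- an element of order 19 -/
def ca19 : ℕ × ℕ := (622, 7)
/-- a Sylow `2`-subgroup -/
def L8c : List (ℕ × ℕ) := [(0, 0), (610, 24), (622, 122), (297, 91), (382, 113), (622, 55), (1, 5), (196, 154)]
/-- conjugators (with inverses) from the first involution to the others -/
def conj2c : List ((ℕ × ℕ) × (ℕ × ℕ) × (ℕ × ℕ)) := [((0, 0), (0, 0), (610, 24)), ((464, 45), (0, 1), (622, 122)), ((0, 3), (464, 23), (297, 91)), ((0, 7), (0, 15), (382, 113)), ((0, 1), (464, 45), (622, 55)), ((0, 15), (0, 7), (1, 5)), ((464, 23), (0, 3), (196, 154))]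
/-- the generator `X` as a product of two conjugates of the element of order 2 -/
def cert2X : (ℕ × ℕ) × (ℕ × ℕ) × (ℕ × ℕ) × (ℕ × ℕ) := ((1, 8), (644, 7), (507, 0), (644, 0))
/-- the generator `Y` as a product of two conjugates of the element of order 2 -/
def cert2Y : (ℕ × ℕ) × (ℕ × ℕ) × (ℕ × ℕ) × (ℕ × ℕ) := ((0, 15), (0, 7), (1, 8), (644, 7))
/-- the generator `X` as a product of two conjugates of the element of order 3 -/
def cert3X : (ℕ × ℕ) × (ℕ × ℕ) × (ℕ × ℕ) × (ℕ × ℕ) := ((0, 51), (293, 47), (576, 265), (649, 195))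
/-- the generator `Y` as a product of two conjugates of the element of order 3 -/
def cert3Y : (ℕ × ℕ) × (ℕ × ℕ) × (ℕ × ℕ) × (ℕ × ℕ) := ((0, 16), (464, 244), (175, 263), (511, 46))
/-- the generator `X` as a product of two conjugates of the element of order 5 -/
def cert5X : (ℕ × ℕ) × (ℕ × ℕ) × (ℕ × ℕ) × (ℕ × ℕ) := ((0, 55), (464, 79), (382, 15), (1, 44))
/-- the generator `Y` as a product of two conjugates of the element of order 5 -/
def cert5Y : (ℕ × ℕ) × (ℕ × ℕ) × (ℕ × ℕ) × (ℕ × ℕ) := ((0, 20), (611, 152), (465, 144), (608, 33))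
/-- the generator `X` as a product of two conjugates of the element of order 7 -/
def cert7X : (ℕ × ℕ) × (ℕ × ℕ) × (ℕ × ℕ) × (ℕ × ℕ) := ((0, 2), (0, 29), (566, 215), (191, 150))
/-- the generator `Y` as a product of two conjugates of the element of order 7 -/
def cert7Y : (ℕ × ℕ) × (ℕ × ℕ) × (ℕ × ℕ) × (ℕ × ℕ) := ((0, 21), (1, 31), (366, 106), (506, 177))
/-- the generator `X` as a product of two conjugates of the element of order 11 -/
def cert11X : (ℕ × ℕ) × (ℕ × ℕ) × (ℕ × ℕ) × (ℕ × ℕ) := ((0, 45), (514, 253), (295, 117), (397, 115))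
/-- the generator `Y` as a product of two conjugates of the element of order 11 -/
def cert11Y : (ℕ × ℕ) × (ℕ × ℕ) × (ℕ × ℕ) × (ℕ × ℕ) := ((0, 40), (655, 147), (532, 59), (90, 5))
/-- the generator `X` as a product of two conjugates of the element of order 19 -/
def cert19X : (ℕ × ℕ) × (ℕ × ℕ) × (ℕ × ℕ) × (ℕ × ℕ) := ((0, 5), (572, 154), (259, 89), (591, 145))
/-- the generator `Y` as a product of two conjugates of the element of order 19 -/
def cert19Y : (ℕ × ℕ) × (ℕ × ℕ) × (ℕ × ℕ) × (ℕ × ℕ) := ((0, 31), (464, 2), (363, 254), (45, 36))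

end Cfsg.Agent.Lib.Helper9.J1
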